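import Groth.Agent.Lib.Ample.Generation
import Groth.Agent.Lib.QCoh.ClosedImmersion
import Groth.Agent.Lib.QCoh.SupportExact
import Groth.Agent.Lib.FormalExist7.Stalk
import Groth.Agent.Lib.Neutral.NilLiftAlg

/-!
# Modules spanned at stalks by their global sections
-/

set_option autoImplicit false
set_option linter.style.haveILetI false
universe u

open CategoryTheory CategoryTheory.Limits AlgebraicGeometry Opposite TopologicalSpace

noncomputable section

namespace GrothLib.UnifVanish7

open GrothLib.QCoh (stalkLin)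

variable {X : Scheme.{u}}

/-- The germs at `y` of the global sections. -/
abbrev spanGlobal (M : X.Modules) (y : X) : Submodule (X.presheaf.stalk y) (M.presheaf.stalk y) :=
  Submodule.span (X.presheaf.stalk y) (Set.range fun s : Γ(M, ⊤) => M.presheaf.germ ⊤ y trivial s)

/-- The stalks are spanned by global sections. -/
def StalkSpanned (M : X.Modules) : Prop := ∀ y : X, spanGlobal M y = ⊤

theorem map_spanGlobal_le {M N : X.Modules} (f : M ⟶ N) (y : X) :
    (spanGlobal M y).map (stalkLin f y) ≤ spanGlobal N y := by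
  rw [Submodule.map_span, Submodule.span_le]
  rintro _ ⟨_, ⟨s, rfl⟩, rfl⟩
  exact Submodule.subset_span ⟨f.app ⊤ s, (QCoh.stalkLin_germ f (U := ⊤) trivial s).symm⟩

theorem StalkSpanned.of_epi {M N : X.Modules} (f : M ⟶ N) [Epi f] (h : StalkSpanned M) : StalkSpanned N :=
  fun y => eq_top_iff.2 fun v _ => by
    obtain ⟨w, rfl⟩ := QCoh.stalkLin_surjective f y v
    exact map_spanGlobal_le f y ⟨w, h y ▸ Submodule.mem_top, rfl⟩

/-- A module spanned at the stalks by global sections is globally generated. -/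
theorem StalkSpanned.isGloballyGenerated {M : X.Modules} (h : StalkSpanned M) : Curv2.IsGloballyGenerated M := by
  let p : (SheafOfModules.free (R := X.ringCatSheaf) Γ(M, ⊤) : X.Modules) ⟶ M :=
    M.freeHomEquiv.symm fun s => Ample.globalSection M s
  refine ⟨Γ(M, ⊤), p, FormalExist7.epi_of_stalk p fun y v => ?_⟩
  have hle : spanGlobal M y ≤ LinearMap.range (stalkLin p y) := by
    refine Submodule.span_le.2 ?_
    rintro _ ⟨s, rfl⟩
    have h2 : SheafOfModules.sectionsMap p (SheafOfModules.freeSection s) = Ample.globalSection M s :=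
      (SheafOfModules.freeHomEquiv_apply p s).symm.trans (congrFun (M.freeHomEquiv.apply_symm_apply _) s)
    have h3 : Scheme.Modules.Hom.app p ⊤ ((SheafOfModules.freeSection (R := X.ringCatSheaf) s).1 (op ⊤)) = s :=
      (congrArg (fun t => t.1 (op ⊤)) h2).trans (InvExt.mres_self M s)
    exact ⟨_, (QCoh.stalkLin_germ p (U := ⊤) trivial _).trans (congrArg _ h3)⟩
  exact hle (h y ▸ Submodule.mem_top)

theorem stalkSpanned_of_local {M : X.Modules}
    (h : ∀ (O : X.Opens) (m : Γ(M, O)) (x : X), x ∈ O → ∃ (W : X.Opens) (hW : W ≤ O), x ∈ W ∧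
      InvExt.mres M hW m ∈ Submodule.span Γ(X, W) (Set.range fun s : Γ(M, ⊤) => InvExt.mres M (le_top : W ≤ ⊤) s)) :
    StalkSpanned M := fun y => eq_top_iff.2 fun v _ => by
  obtain ⟨O, hy, m, rfl⟩ := TopCat.Presheaf.exists_germ_eq M.presheaf v
  obtain ⟨W, hW, hyW, hm⟩ := h O m y hy
  rw [← TopCat.Presheaf.germ_res_apply M.presheaf (homOfLE hW) y hyW m]
  refine Submodule.span_induction (p := fun z _ => M.presheaf.germ W y hyW z ∈ spanGlobal M y) ?_ ?_ ?_ ?_ hm
  · rintro _ ⟨s, rfl⟩
    exact Submodule.subset_span ⟨s, (TopCat.Presheaf.germ_res_apply M.presheaf (homOfLE le_top) y hyW s).symm⟩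
  · rw [map_zero]; exact Submodule.zero_mem _
  · intro a b _ _ ha hb
    rw [map_add]; exact Submodule.add_mem _ ha hb
  · intro r a _ ha
    rw [WeakAss.germ_smul]
    exact Submodule.smul_mem _ _ ha

/-- A lift through a surjection on global sections whose kernel is infinitesimal. -/
theorem StalkSpanned.of_map {M N : X.Modules} (τ : M ⟶ N) (hs : Function.Surjective (τ.app ⊤))
    (hN : StalkSpanned N) (I : (y : X) → Ideal (X.presheaf.stalk y)) (hI : ∀ y, IsNilpotent (I y))
    (hker : ∀ y, LinearMap.ker (stalkLin τ y) ≤ I y • (⊤ : Submodule (X.presheaf.stalk y) (M.presheaf.stalk y))) :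
    StalkSpanned M := by
  intro y
  refine top_le_iff.1 (Neutral.le_of_le_sup_smul (hI y) ?_)
  intro v _
  have h1 : spanGlobal N y ≤ (spanGlobal M y).map (stalkLin τ y) := by
    rw [Submodule.map_span]
    refine Submodule.span_mono ?_
    rintro _ ⟨s, rfl⟩
    obtain ⟨s', rfl⟩ := hs s
    exact ⟨_, ⟨s', rfl⟩, QCoh.stalkLin_germ τ (U := ⊤) trivial s'⟩
  obtain ⟨w, hw, he⟩ := h1 (hN y ▸ Submodule.mem_top : stalkLin τ y v ∈ spanGlobal N y)
  rw [← sub_add_cancel v w, add_comm]
  exact Submodule.add_mem_sup hw (hker y (by rw [LinearMap.mem_ker, map_sub, he, sub_self]))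

/-- A direct image along a surjective closed immersion of a spanned module is spanned. -/
theorem StalkSpanned.push {Z : Scheme.{u}} (e : Z ⟶ X) [IsClosedImmersion e] [Surjective e] {N : Z.Modules}
    (hN : StalkSpanned N) : StalkSpanned ((Scheme.Modules.pushforward e).obj N) := by
  intro x
  obtain ⟨y, rfl⟩ := e.surjective x
  refine eq_top_iff.2 fun v _ => ?_
  have hind := (Scheme.Hom.isClosedEmbedding e).isInducing
  have hb := QCoh.pushStalkHom_bijective e y N hind
  have key : ∀ a ∈ spanGlobal N y, ∃ w ∈ spanGlobal ((Scheme.Modules.pushforward e).obj N) (e y),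
      (QCoh.pushStalkHom e y N).hom w = a := by
    intro a ha
    induction ha using Submodule.span_induction with
    | mem z hz =>
      obtain ⟨s, rfl⟩ := hz
      exact ⟨_, Submodule.subset_span ⟨s, rfl⟩, QCoh.pushStalkHom_germ e y N ⊤ trivial s⟩
    | zero => exact ⟨0, Submodule.zero_mem _, map_zero _⟩
    | add a b _ _ ha hb =>
      obtain ⟨a', ha', rfl⟩ := ha
      obtain ⟨b', hb', rfl⟩ := hb
      exact ⟨a' + b', Submodule.add_mem _ ha' hb', map_add _ _ _⟩
    | smul r a _ ha =>
      obtain ⟨a', ha', rfl⟩ := ha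
      obtain ⟨r', rfl⟩ := e.stalkMap_surjective y r
      exact ⟨r' • a', Submodule.smul_mem _ _ ha', (QCoh.pushStalkHom e y N).hom.map_smul r' a'⟩
  obtain ⟨w, hw, he⟩ := key ((QCoh.pushStalkHom e y N).hom v) (hN y ▸ Submodule.mem_top)
  exact hb.1 he ▸ hw

end GrothLib.UnifVanish7
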