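import Groth.Agent.Lib.UnifVanish7.Graded

/-!
# Uniform vanishing on the levels of an adic system
-/

set_option autoImplicit false
set_option linter.style.haveILetI false
set_option linter.unusedSectionVars false
universe u

open CategoryTheory CategoryTheory.Limits AlgebraicGeometry Opposite TopologicalSpace

noncomputable section

namespace GrothLib.UnifVanish7

open GrothLib.Ample (Cocycle)

variable {A : Type u} [CommRing A] [IsNoetherianRing A] {J : Ideal A} {Xs : ℕ → Scheme.{u}}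
  [hX : ∀ k, (Xs k).Over (Spec (CommRingCat.of A))]
  {i : (k : ℕ) → (Xs k ⟶ Xs (k + 1))}
  {p : (k : ℕ) → (Xs k ⟶ Spec (CommRingCat.of (A ⧸ J ^ (k + 1))))}

/-- Twisting by cohomology vanishing, from tensor powers to cocycles. -/
theorem subsingleton_HH_modTwist {X : Scheme.{u}} (c : Cocycle X) {L : X.Modules} (e : L ≅ c.twist 1)
    {M : X.Modules} {n q : ℕ} (h : Subsingleton (Coh.HH X (CohB1.tensorMod M (CohB1.tensorPow L n)) q)) :
    Subsingleton (Coh.HH X (c.modTwist M n) q) := by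
  obtain ⟨i⟩ := nonempty_tensorPow_modTwist c e M n
  letI : X.Over (Spec (CommRingCat.of Γ(X, ⊤))) := ⟨X.toSpecΓ⟩
  exact (GrothLib.Euler.hhEquiv (A := Γ(X, ⊤)) i q).toEquiv.symm.subsingleton

theorem nonempty_pullback_bot {L : (k : ℕ) → (Xs k).Modules}
    (φ : ∀ k, Nonempty ((Scheme.Modules.pullback (i k)).obj (L (k + 1)) ≅ L k)) :
    ∀ k, Nonempty ((Scheme.Modules.pullback (bot i k)).obj (L k) ≅ L 0)
  | 0 => ⟨(Scheme.Modules.pullbackId (Xs 0)).app (L 0)⟩
  | k + 1 => by
    obtain ⟨f⟩ := φ k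
    obtain ⟨g⟩ := nonempty_pullback_bot φ k
    exact ⟨((Scheme.Modules.pullbackComp (bot i k) (i k)).app (L (k + 1))).symm ≪≫
      (Scheme.Modules.pullback (bot i k)).mapIso f ≪≫ g⟩

variable (h : IsAdicSys J i p) (hp : IsProper (p 0))
  {F : (k : ℕ) → (Xs k).Modules} (hF : ∀ k, Coh.IsCoh (F k))
  {L : (k : ℕ) → (Xs k).Modules} (hL : ∀ k, PicF.IsInvertible (L k))
  (φ : ∀ k, Nonempty ((Scheme.Modules.pullback (i k)).obj (L (k + 1)) ≅ L k)) (ha : CohB1.IsAmple (L 0))

include h hp hF hL φ ha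

/-- A uniform bound for the vanishing of the twists of the kernels of the transition maps, and of the levels. -/
theorem exists_vanish_levels (ψ : ∀ k, (Scheme.Modules.pullback (i k)).obj (F (k + 1)) ≅ F k) :
    ∃ n₀ : ℕ, ∀ n, n₀ ≤ n → ∀ k q, 1 ≤ q →
      Subsingleton (Coh.HH (Xs (k + 1)) (CohB1.tensorMod (Kr ψ k) (CohB1.tensorPow (L (k + 1)) n)) q) ∧
      Subsingleton (Coh.HH (Xs k) (CohB1.tensorMod (F k) (CohB1.tensorPow (L k) n)) q) := by
  obtain ⟨c, ⟨e⟩⟩ := Ample.exists_cocycle (hL 0)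
  have hc : c.IsAmp := ((c.isAmple_iff e).1 ha).2
  obtain ⟨r, a, hspan⟩ := Submodule.fg_iff_exists_fin_generating_family.1 (IsNoetherian.noetherian J)
  have haJ : ∀ j, a j ∈ J := fun j => hspan.le (Submodule.subset_span ⟨j, rfl⟩)
  haveI := isProper_over h hp 0
  obtain ⟨n₁, hn₁⟩ := exists_uniform_vanish c A hc r (P ψ) (isCoh_P h hp hF ψ)
    (fun j k => step h hp hF ψ k (haJ j)) (fun x y k => step_comm h hp hF ψ k (haJ x) (haJ y)) 0
    fun k _ => jointlyEpi_step h hp hF ψ a haJ hspan k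
  obtain ⟨n₂, hn₂⟩ := SerreVanish.evAcyclic c A hc (hF 0)
  refine ⟨max n₁ n₂, fun n hn => ?_⟩
  have hK : ∀ k q, 1 ≤ q →
      Subsingleton (Coh.HH (Xs (k + 1)) (CohB1.tensorMod (Kr ψ k) (CohB1.tensorPow (L (k + 1)) n)) q) := by
    intro k q hq
    haveI := isNoetherian_level h hp (k + 1)
    haveI := isClosedImmersion_bot h (k + 1)
    haveI := (isCoh_Kr h hp hF ψ k).1
    obtain ⟨g⟩ := nonempty_pullback_bot φ (k + 1)
    obtain ⟨f⟩ := nonempty_HH_equiv_of_killed (bot i (k + 1)) (Kr ψ k) (killed_Kr h hp hF ψ k) (hL (k + 1)) g n q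
    haveI : Subsingleton (Coh.HH (Xs 0) (CohB1.tensorMod (P ψ k) (CohB1.tensorPow (L 0) n)) q) :=
      subsingleton_HH_tensor c e (hn₁ n ((le_max_left _ _).trans hn) k q hq)
    exact f.subsingleton
  intro k
  induction k with
  | zero => exact fun q hq => ⟨hK 0 q hq, subsingleton_HH_tensor c e (hn₂ n ((le_max_right _ _).trans hn) q hq)⟩
  | succ k ih =>
    intro q hq
    refine ⟨hK (k + 1) q hq, ?_⟩
    haveI := isNoetherian_level h hp (k + 1)
    haveI := isNoetherian_level h hp k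
    haveI := isClosedImmersion_i h k
    haveI := isProper_over h hp (k + 1)
    haveI := (hF k).1
    haveI := (isCoh_push h hp hF k (hF k)).1
    obtain ⟨c', ⟨e'⟩⟩ := Ample.exists_cocycle (hL (k + 1))
    have hkill : ClSub.KilledByIdeal (i k).ker ((Scheme.Modules.pushforward (i k)).obj (F k)) :=
      K0Sub.killedByIdeal_push (i k) (F k)
    obtain ⟨g⟩ := φ k
    obtain ⟨f⟩ := nonempty_HH_equiv_of_killed (i k) _ hkill (hL (k + 1)) g n q
    haveI := isIso_counit_closed (i k) (F k)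
    let t : CohB1.tensorMod ((Scheme.Modules.pullback (i k)).obj ((Scheme.Modules.pushforward (i k)).obj (F k)))
        (CohB1.tensorPow (L k) n) ≅ CohB1.tensorMod (F k) (CohB1.tensorPow (L k) n) :=
      ((DCoh.tensorBi (X := Xs k)).flip.obj (CohB1.tensorPow (L k) n)).mapIso
        (asIso ((Scheme.Modules.pullbackPushforwardAdjunction (i k)).counit.app (F k)))
    haveI := (ih q hq).2
    haveI : Subsingleton (Coh.HH (Xs k) (CohB1.tensorMod
        ((Scheme.Modules.pullback (i k)).obj ((Scheme.Modules.pushforward (i k)).obj (F k)))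
        (CohB1.tensorPow (L k) n)) q) := by
      letI : (Xs k).Over (Spec (CommRingCat.of Γ(Xs k, ⊤))) := ⟨(Xs k).toSpecΓ⟩
      exact (Euler.hhEquiv (A := Γ(Xs k, ⊤)) t q).toEquiv.subsingleton
    have h3 : Subsingleton (Coh.HH (Xs (k + 1)) (c'.modTwist ((Scheme.Modules.pushforward (i k)).obj (F k)) n) q) :=
      subsingleton_HH_modTwist c' e' f.subsingleton
    have h1 := subsingleton_HH_modTwist c' e' (hK k q hq)
    refine subsingleton_HH_tensor c' e' (subsingleton_of_forall_eq 0 fun y => ?_)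
    have hS : (ShortComplex.mk (kernel.ι (rho ψ k)) (rho ψ k) (kernel.condition _)).ShortExact :=
      ShortComplex.ShortExact.mk' (ShortComplex.exact_of_f_is_kernel _ (kernelIsKernel _)) inferInstance
        (epi_rho h hp hF ψ k)
    obtain ⟨z, rfl⟩ := (Cohom.exact₂ (A := A) (SerreVanish.twistSeq_shortExact c' n hS) q y).1
      (@Subsingleton.elim _ h3 _ _)
    rw [@Subsingleton.elim _ h1 z 0, map_zero]

end GrothLib.UnifVanish7
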