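import Groth.Agent.Lib.UnifVanish7.Thick
import Groth.Agent.Lib.FormalExist7.ThickAlg
import Groth.Agent.Lib.K0Sub.KerUnit
import Groth.Agent.Lib.K0Sub.Killed
import Groth.Agent.Lib.SerreVanish.Main

/-!
# Compatible systems of schemes over the thickenings of the base
-/

set_option autoImplicit false
set_option linter.style.haveILetI false
universe u

open CategoryTheory CategoryTheory.Limits AlgebraicGeometry Opposite TopologicalSpace

noncomputable section

namespace GrothLib.UnifVanish7

open GrothLib.FormalFun (toSec)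

variable {A : Type u} [CommRing A] (J : Ideal A) {Xs : ℕ → Scheme.{u}}
  [hX : ∀ k, (Xs k).Over (Spec (CommRingCat.of A))]
  {i : (k : ℕ) → (Xs k ⟶ Xs (k + 1))}
  {p : (k : ℕ) → (Xs k ⟶ Spec (CommRingCat.of (A ⧸ J ^ (k + 1))))}

/-- An adic system of schemes over the thickenings, each seen over the base. -/
structure IsAdicSys (i : (k : ℕ) → (Xs k ⟶ Xs (k + 1)))
    (p : (k : ℕ) → (Xs k ⟶ Spec (CommRingCat.of (A ⧸ J ^ (k + 1))))) : Prop where
  cart : ∀ k, IsPullback (i k) (p k) (p (k + 1)) (CohB1.specQuotTrans J k)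
  struct : ∀ k, Xs k ↘ Spec (CommRingCat.of A) = p k ≫ CohB1.specQuot J k

omit hX in
theorem specQuotTrans_specQuot (k : ℕ) :
    CohB1.specQuotTrans J k ≫ CohB1.specQuot J (k + 1) = CohB1.specQuot J k := by
  rw [CohB1.specQuotTrans, CohB1.specQuot, CohB1.specQuot, ← Spec.map_comp, ← CommRingCat.ofHom_comp]
  congr 2

/-- The inclusions of the closed level. -/
def bot (i : (k : ℕ) → (Xs k ⟶ Xs (k + 1))) : (k : ℕ) → (Xs 0 ⟶ Xs k)
  | 0 => 𝟙 _
  | k + 1 => bot i k ≫ i k

variable {J} (h : IsAdicSys J i p)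
include h

theorem isPullback_base (k : ℕ) :
    IsPullback (i k) (p k) (Xs (k + 1) ↘ Spec (CommRingCat.of A)) (CohB1.specQuot J k) := by
  haveI := FormalExist7.isClosedImmersion_specQuot J (k + 1)
  have h2 : IsPullback (CohB1.specQuotTrans J k) (𝟙 _) (CohB1.specQuot J (k + 1)) (CohB1.specQuot J k) :=
    ⟨⟨(specQuotTrans_specQuot J k).trans (Category.id_comp _).symm⟩,
      ⟨PullbackCone.IsLimit.mk _ (fun s => s.snd)
        (fun s => by
          rw [← cancel_mono (CohB1.specQuot J (k + 1)), Category.assoc, specQuotTrans_specQuot, s.condition])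
        (fun s => Category.comp_id _) (fun s m _ hm => (Category.comp_id m).symm.trans hm)⟩⟩
  have := (h.cart k).paste_vert h2
  rwa [Category.comp_id, ← h.struct] at this

theorem isClosedImmersion_i (k : ℕ) : IsClosedImmersion (i k) :=
  isClosedImmersion_of_square _ Ideal.Quotient.mk_surjective (isPullback_base h k)

theorem ker_i (k : ℕ) (U : (Xs (k + 1)).affineOpens) :
    (i k).ker.ideal U = (J ^ (k + 1)).map (toSec A U.1) := by
  rw [ideal_ker_of_square _ Ideal.Quotient.mk_surjective (isPullback_base h k), Ideal.mk_ker]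

/-- Over the base the transition maps are morphisms. -/
theorem i_struct (k : ℕ) : i k ≫ (Xs (k + 1) ↘ Spec (CommRingCat.of A)) = Xs k ↘ Spec (CommRingCat.of A) := by
  rw [(isPullback_base h k).w, ← h.struct]

/-- The base ring acts on the level `k` through `A / J ^ (k + 1)`. -/
theorem toSec_eq_zero (k : ℕ) (U : (Xs k).Opens) {a : A} (ha : a ∈ J ^ (k + 1)) : toSec A U a = 0 := by
  have h0 : Coh.toGlobal (Xs k ↘ Spec (CommRingCat.of A)) a = 0 := by
    rw [h.struct]
    show (p k).appTop ((Spec.map (CommRingCat.ofHom (Ideal.Quotient.mk (J ^ (k + 1))))).appTop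
      ((Scheme.ΓSpecIso (CommRingCat.of A)).inv a)) = 0
    refine (congrArg (p k).appTop (ConcreteCategory.congr_hom
      (Scheme.ΓSpecIso_inv_naturality (CommRingCat.ofHom (Ideal.Quotient.mk (J ^ (k + 1))))).symm a)).trans ?_
    show (p k).appTop ((Scheme.ΓSpecIso _).inv (Ideal.Quotient.mk (J ^ (k + 1)) a)) = 0
    rw [Ideal.Quotient.eq_zero_iff_mem.2 ha, map_zero, map_zero]
  show (Xs k).presheaf.map (homOfLE (le_top : U ≤ ⊤)).op (Coh.toGlobal (Xs k ↘ Spec (CommRingCat.of A)) a) = 0
  rw [h0]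
  exact map_zero _

theorem isPullback_bot : ∀ k, ∃ t, IsPullback (bot i k) (p 0) (p k) t ∧ t ≫ CohB1.specQuot J k = CohB1.specQuot J 0
  | 0 => ⟨𝟙 _, IsPullback.id_horiz (p 0), Category.id_comp _⟩
  | k + 1 => by
    obtain ⟨t, ht, e⟩ := isPullback_bot k
    exact ⟨t ≫ CohB1.specQuotTrans J k, ht.paste_horiz (h.cart k), by
      rw [Category.assoc, specQuotTrans_specQuot, e]⟩

theorem isPullback_bot_base (k : ℕ) :
    IsPullback (bot i k) (p 0) (Xs k ↘ Spec (CommRingCat.of A)) (CohB1.specQuot J 0) := by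
  obtain ⟨t, ht, e⟩ := isPullback_bot h k
  haveI := FormalExist7.isClosedImmersion_specQuot J k
  have h2 : IsPullback t (𝟙 _) (CohB1.specQuot J k) (CohB1.specQuot J 0) :=
    ⟨⟨e.trans (Category.id_comp _).symm⟩,
      ⟨PullbackCone.IsLimit.mk _ (fun s => s.snd)
        (fun s => by rw [← cancel_mono (CohB1.specQuot J k), Category.assoc, e, s.condition])
        (fun s => Category.comp_id _) (fun s m _ hm => (Category.comp_id m).symm.trans hm)⟩⟩
  have := ht.paste_vert h2
  rwa [Category.comp_id, ← h.struct] at this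

theorem isClosedImmersion_bot (k : ℕ) : IsClosedImmersion (bot i k) :=
  isClosedImmersion_of_square _ Ideal.Quotient.mk_surjective (isPullback_bot_base h k)

theorem ker_bot (k : ℕ) (U : (Xs k).affineOpens) : (bot i k).ker.ideal U = J.map (toSec A U.1) := by
  rw [ideal_ker_of_square _ Ideal.Quotient.mk_surjective (isPullback_bot_base h k), Ideal.mk_ker, zero_add, pow_one]

theorem isProper_p (hp : IsProper (p 0)) : ∀ k, IsProper (p k)
  | 0 => hp
  | k + 1 => by
    haveI := isProper_p hp k
    letI : (Xs (k + 1)).Over (Spec (CommRingCat.of (A ⧸ J ^ (k + 2)))) := ⟨p (k + 1)⟩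
    have hle : J ^ (k + 2) ≤ J ^ (k + 1) := Ideal.pow_le_pow_right (Nat.le_succ (k + 1))
    have hn : IsNilpotent (RingHom.ker (Ideal.Quotient.factor hle)) := ⟨2, by
      rw [Ideal.Quotient.factor_ker hle, ← Ideal.map_pow, ← pow_mul, Ideal.zero_eq_bot, Ideal.map_eq_bot_iff_le_ker,
        Ideal.mk_ker]
      exact Ideal.pow_le_pow_right (by omega)⟩
    exact isProper_of_square (Ideal.Quotient.factor hle) (Ideal.Quotient.factor_surjective hle) (Y := Xs (k + 1))
      (h.cart k) hn

theorem isProper_over (hp : IsProper (p 0)) (k : ℕ) : IsProper (Xs k ↘ Spec (CommRingCat.of A)) := by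
  haveI := isProper_p h hp k
  haveI := FormalExist7.isClosedImmersion_specQuot J k
  rw [h.struct]
  infer_instance

theorem isNoetherian_level [IsNoetherianRing A] (hp : IsProper (p 0)) (k : ℕ) :
    AlgebraicGeometry.IsNoetherian (Xs k) :=
  haveI := isProper_over h hp k
  SerreVanish.isNoetherian_of_proper A

end GrothLib.UnifVanish7
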