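import Groth.Agent.Lib.UnifVanish7.Convert
import Groth.Agent.Lib.K0Sub.Killed
import Groth.Agent.Lib.K0Sub.KerUnit
import Groth.Agent.Lib.ProjFormula.Iso
import Groth.Agent.Lib.CMReg.StructureMain
import Groth.Agent.Lib.Cohom.Compare
import Groth.Agent.Lib.FormalExist7.Pullback

/-!
# Direct images along closed immersions
-/

set_option autoImplicit false
set_option linter.style.haveILetI false
universe u

open CategoryTheory CategoryTheory.Limits AlgebraicGeometry Opposite TopologicalSpace

noncomputable section

namespace GrothLib.UnifVanish7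

variable {X Z : Scheme.{u}} (e : Z ⟶ X) [IsClosedImmersion e]

/-- The counit of a closed immersion is an isomorphism on quasi-coherent modules. -/
theorem isIso_counit_closed (M : Z.Modules) [M.IsQuasicoherent] :
    IsIso ((Scheme.Modules.pullbackPushforwardAdjunction e).counit.app M) := by
  let adj := Scheme.Modules.pullbackPushforwardAdjunction e
  haveI := QCoh.isQuasicoherent_pushforward e M
  haveI := QCoh.isIso_unit_of_killed e _ (K0Sub.killedByIdeal_push e M)
  have h1 := adj.right_triangle_components M
  haveI : IsIso ((Scheme.Modules.pushforward e).map (adj.counit.app M)) := by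
    rw [show (Scheme.Modules.pushforward e).map (adj.counit.app M) =
      inv ((Scheme.Modules.pullbackPushforwardAdjunction e).unit.app
        ((Scheme.Modules.pushforward e).obj M)) from IsIso.eq_inv_of_hom_inv_id h1]
    infer_instance
  exact K0Sub.isIso_of_isIso_push e _

/-- An epimorphism of quasi-coherent sheaves is surjective on affine opens. -/
theorem app_surjective_of_epi' {Y : Scheme.{u}} {M N : Y.Modules} [M.IsQuasicoherent] [N.IsQuasicoherent]
    (φ : M ⟶ N) [Epi φ] {U : Y.Opens} (hU : IsAffineOpen U) : Function.Surjective (φ.app U) := by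
  have := QCoh.isQuasicoherent_kernel φ
  have hS : (ShortComplex.mk (kernel.ι φ) φ (kernel.condition φ)).ShortExact :=
    { exact := ShortComplex.exact_kernel φ }
  exact @QCoh.app_surjective_of_isAffineOpen _ _ hS this U hU

/-- A direct image along a closed immersion of an epimorphism of quasi-coherent modules is one. -/
theorem epi_push {M N : Z.Modules} [M.IsQuasicoherent] [N.IsQuasicoherent] (φ : M ⟶ N) [Epi φ] :
    Epi ((Scheme.Modules.pushforward e).map φ) := by
  haveI := QCoh.isQuasicoherent_pushforward e N
  exact K0Sub.epi_of_app_surjective _ fun U => app_surjective_of_epi' φ (U.2.preimage e)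

section Comp

variable {W : Scheme.{u}} (b : W ⟶ Z)

/-- Pulling back a direct image along a composite. -/
def pushPull : Scheme.Modules.pushforward e ⋙ Scheme.Modules.pullback (b ≫ e) ⟶ Scheme.Modules.pullback b where
  app M := (Scheme.Modules.pullbackComp b e).inv.app ((Scheme.Modules.pushforward e).obj M) ≫
    (Scheme.Modules.pullback b).map ((Scheme.Modules.pullbackPushforwardAdjunction e).counit.app M)
  naturality {M N} φ := by
    dsimp only [Functor.comp_map]
    erw [reassoc_of% ((Scheme.Modules.pullbackComp b e).inv.naturality ((Scheme.Modules.pushforward e).map φ))]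
    rw [Category.assoc, ← Functor.map_comp, ← Functor.map_comp]
    congr 2
    exact (Scheme.Modules.pullbackPushforwardAdjunction e).counit.naturality φ

theorem isIso_pushPull (M : Z.Modules) [M.IsQuasicoherent] : IsIso ((pushPull e b).app M) := by
  haveI := isIso_counit_closed e M
  exact IsIso.comp_isIso' inferInstance (Functor.map_isIso _ _)

end Comp

/-- Twists of modules living on a closed subscheme are direct images. -/
theorem nonempty_tensor_push_iso [IsLocallyNoetherian X] (M : X.Modules) [M.IsQuasicoherent]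
    (hM : ClSub.KilledByIdeal e.ker M) {L : X.Modules} (hL : PicF.IsInvertible L) {L' : Z.Modules}
    (φ : (Scheme.Modules.pullback e).obj L ≅ L') (n : ℕ) :
    Nonempty (CohB1.tensorMod M (CohB1.tensorPow L n) ≅ (Scheme.Modules.pushforward e).obj
      (CohB1.tensorMod ((Scheme.Modules.pullback e).obj M) (CohB1.tensorPow L' n))) := by
  haveI := QCoh.isIso_unit_of_killed e M hM
  let N := (Scheme.Modules.pullback e).obj M
  let E := CohB1.tensorPow L n
  obtain ⟨f₁⟩ := Ample.nonempty_pullback_tensorPow e hL n
  have hE : PicF.IsInvertible E := Ample.isInvertible_tensorPow hL n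
  haveI := ProjFormula.isIso_projHom e (Euler.isFinLocFree_of_isInvertible hE) N
  obtain ⟨c, ⟨i⟩⟩ := Ample.exists_cocycle (Ample.isInvertible_pullback e hL)
  obtain ⟨d⟩ := c.nonempty_tensorPow_iso i n
  obtain ⟨d'⟩ := c.nonempty_tensorPow_iso (φ.symm ≪≫ i) n
  exact ⟨GrTilde.tensorModComm _ _ ≪≫
      ((DCoh.tensorBi (X := X)).obj E).mapIso (asIso ((Scheme.Modules.pullbackPushforwardAdjunction e).unit.app M)) ≪≫
      asIso (ProjFormula.projHom e E N) ≪≫ (Scheme.Modules.pushforward e).mapIso (GrTilde.tensorModComm _ _) ≪≫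
      (Scheme.Modules.pushforward e).mapIso (((DCoh.tensorBi (X := Z)).obj N).mapIso (f₁ ≪≫ d ≪≫ d'.symm))⟩

/-- Cohomology of twists of modules living on a closed subscheme. -/
theorem nonempty_HH_equiv_of_killed [IsLocallyNoetherian X] (M : X.Modules) [M.IsQuasicoherent]
    (hM : ClSub.KilledByIdeal e.ker M) {L : X.Modules} (hL : PicF.IsInvertible L) {L' : Z.Modules}
    (φ : (Scheme.Modules.pullback e).obj L ≅ L') (n q : ℕ) :
    Nonempty (Coh.HH X (CohB1.tensorMod M (CohB1.tensorPow L n)) q ≃
      Coh.HH Z (CohB1.tensorMod ((Scheme.Modules.pullback e).obj M) (CohB1.tensorPow L' n)) q) := by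
  obtain ⟨f⟩ := nonempty_tensor_push_iso e M hM hL φ n
  haveI := FittSheaf.isQuasicoherent_pullback e M
  obtain ⟨c, ⟨i⟩⟩ := Ample.exists_cocycle (Ample.isInvertible_pullback e hL)
  obtain ⟨t⟩ := nonempty_tensorPow_modTwist c (φ.symm ≪≫ i) ((Scheme.Modules.pullback e).obj M) n
  haveI : (CohB1.tensorMod ((Scheme.Modules.pullback e).obj M) (CohB1.tensorPow L' n)).IsQuasicoherent := by
    haveI := c.isQuasicoherent_modTwist ((Scheme.Modules.pullback e).obj M) n
    exact QCoh.isQuasicoherent_of_iso t.symm
  obtain ⟨h₁⟩ := Cohom.nonempty_HH_equiv_pushforward e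
    (CohB1.tensorMod ((Scheme.Modules.pullback e).obj M) (CohB1.tensorPow L' n)) q
  letI : X.Over (Spec (CommRingCat.of Γ(X, ⊤))) := ⟨X.toSpecΓ⟩
  exact ⟨(Euler.hhEquiv (A := Γ(X, ⊤)) f q).toEquiv.trans h₁.symm.toEquiv⟩

end GrothLib.UnifVanish7
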