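import Groth.Agent.Lib.UnifVanish7.Main
import Groth.Agent.Lib.UnifVanish7.Levels
import Groth.Agent.Lib.UnifVanish7.Transfer
import Groth.Agent.Lib.BCCoh.ElemHom

/-!
# The associated graded system of a compatible system of coherent modules on an adic system
-/

set_option autoImplicit false
set_option linter.style.haveILetI false
set_option linter.unusedSectionVars false
universe u

open CategoryTheory CategoryTheory.Limits AlgebraicGeometry Opposite TopologicalSpace

noncomputable section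

namespace GrothLib.UnifVanish7

open GrothLib.FormalFun (toSec)
open GrothLib.QCoh (appLinear)

variable {A : Type u} [CommRing A] [IsNoetherianRing A] {J : Ideal A} {Xs : ℕ → Scheme.{u}}
  [hX : ∀ k, (Xs k).Over (Spec (CommRingCat.of A))]
  {i : (k : ℕ) → (Xs k ⟶ Xs (k + 1))}
  {p : (k : ℕ) → (Xs k ⟶ Spec (CommRingCat.of (A ⧸ J ^ (k + 1))))}
  (h : IsAdicSys J i p) (hp : IsProper (p 0))
  {F : (k : ℕ) → (Xs k).Modules} (hF : ∀ k, Coh.IsCoh (F k))
  (ψ : ∀ k, (Scheme.Modules.pullback (i k)).obj (F (k + 1)) ≅ F k)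

/-- Multiplication on a direct image. -/
theorem smulMod_push {X Y : Scheme.{u}} [X.Over (Spec (CommRingCat.of A))] [Y.Over (Spec (CommRingCat.of A))]
    (g : X ⟶ Y) (hg : g ≫ (Y ↘ Spec (CommRingCat.of A)) = X ↘ Spec (CommRingCat.of A)) (M : X.Modules) (a : A) :
    Formal.smulMod A ((Scheme.Modules.pushforward g).obj M) a =
      (Scheme.Modules.pushforward g).map (Formal.smulMod A M a) := by
  refine Scheme.Modules.hom_ext _ _ fun U => ?_
  ext m
  refine (Coh.smulAb_app _ _ (op U) m).trans (Eq.trans ?_ (Coh.smulAb_app M _ (op (g ⁻¹ᵁ U)) m).symm)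
  refine congrArg (fun z : Γ(X, g ⁻¹ᵁ U) => z • (show Γ(M, g ⁻¹ᵁ U) from m)) ?_
  rw [← hg]
  exact ConcreteCategory.congr_hom (g.naturality (homOfLE (le_top : U ≤ ⊤)).op) _

/-- Pulling back a direct image to the closed level. -/
def cmp (k : ℕ) (M : (Xs k).Modules) [IsClosedImmersion (i k)] :
    (Scheme.Modules.pullback (bot i (k + 1))).obj ((Scheme.Modules.pushforward (i k)).obj M) ⟶
      (Scheme.Modules.pullback (bot i k)).obj M :=
  (pushPull (i k) (bot i k)).app M

theorem cmp_naturality (k : ℕ) [IsClosedImmersion (i k)] {M N : (Xs k).Modules} (φ : M ⟶ N) :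
    (Scheme.Modules.pullback (bot i (k + 1))).map ((Scheme.Modules.pushforward (i k)).map φ) ≫ cmp k N =
      cmp k M ≫ (Scheme.Modules.pullback (bot i k)).map φ :=
  (pushPull (i k) (bot i k)).naturality φ

theorem isIso_cmp (k : ℕ) [IsClosedImmersion (i k)] (M : (Xs k).Modules) [M.IsQuasicoherent] :
    IsIso (cmp (i := i) k M) :=
  isIso_pushPull (i k) (bot i k) M

/-- The transition map onto the direct image of the previous level. -/
def rho (k : ℕ) : F (k + 1) ⟶ (Scheme.Modules.pushforward (i k)).obj (F k) :=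
  (Scheme.Modules.pullbackPushforwardAdjunction (i k)).unit.app (F (k + 1)) ≫
    (Scheme.Modules.pushforward (i k)).map (ψ k).hom

/-- The kernels of the transition maps. -/
abbrev Kr (k : ℕ) : (Xs (k + 1)).Modules := kernel (rho ψ k)

include h hp hF

theorem isCoh_push (k : ℕ) {M : (Xs k).Modules} (hM : Coh.IsCoh M) :
    Coh.IsCoh ((Scheme.Modules.pushforward (i k)).obj M) := by
  haveI := isClosedImmersion_i h k
  haveI := isNoetherian_level h hp (k + 1)
  exact FormalExist7.isCoh_pushforward (i k) hM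

theorem isCoh_Kr (k : ℕ) : Coh.IsCoh (Kr ψ k) :=
  haveI := isNoetherian_level h hp (k + 1)
  QCoh.isCoh_kernel _ (hF _) (isCoh_push h hp hF k (hF k))

theorem rho_surjective (k : ℕ) (U : (Xs (k + 1)).affineOpens) : Function.Surjective ((rho ψ k).app U.1) := by
  haveI := isClosedImmersion_i h k
  haveI := (hF (k + 1)).1
  intro z
  obtain ⟨m, hm⟩ := (K0Sub.app_unit_surjective_and_ker (i k) (F (k + 1)) U).1
    ((ψ k).inv.app (i k ⁻¹ᵁ U.1) z)
  refine ⟨m, ?_⟩
  refine (congrArg ((ψ k).hom.app (i k ⁻¹ᵁ U.1)) hm).trans ?_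
  exact congrArg (fun φ : F k ⟶ F k => φ.app (i k ⁻¹ᵁ U.1) z) (ψ k).inv_hom_id

theorem rho_eq_zero_iff (k : ℕ) (U : (Xs (k + 1)).affineOpens) (m : Γ(F (k + 1), U.1)) :
    (rho ψ k).app U.1 m = 0 ↔
      m ∈ (J ^ (k + 1)).map (toSec A U.1) • (⊤ : Submodule Γ(Xs (k + 1), U.1) Γ(F (k + 1), U.1)) := by
  haveI := isClosedImmersion_i h k
  haveI := (hF (k + 1)).1
  rw [← ker_i h k U, ← (K0Sub.app_unit_surjective_and_ker (i k) (F (k + 1)) U).2 m]
  constructor
  · intro hm
    have e := congrArg ((ψ k).inv.app (i k ⁻¹ᵁ U.1)) hm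
    have e := e.trans (map_zero _)
    refine (congrArg (fun φ : (Scheme.Modules.pullback (i k)).obj (F (k + 1)) ⟶ _ => φ.app (i k ⁻¹ᵁ U.1)
      ((K0Sub.unitApp (i k) (F (k + 1))).app U.1 m)) (ψ k).hom_inv_id).symm.trans ?_
    exact e
  · intro hm
    exact (congrArg ((ψ k).hom.app (i k ⁻¹ᵁ U.1)) hm).trans (map_zero _)

theorem epi_rho (k : ℕ) : Epi (rho ψ k) := by
  haveI := (isCoh_push h hp hF k (hF k)).1
  exact K0Sub.epi_of_app_surjective _ (rho_surjective h hp hF ψ k)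

theorem smul_eq_zero_of_mem (k : ℕ) (U : (Xs (k + 1)).affineOpens) {b : Γ(Xs (k + 1), U.1)}
    (hb : b ∈ J.map (toSec A U.1)) {m : Γ(F (k + 1), U.1)}
    (hm : m ∈ (J ^ (k + 1)).map (toSec A U.1) • (⊤ : Submodule Γ(Xs (k + 1), U.1) Γ(F (k + 1), U.1))) :
    b • m = 0 := by
  have h0 : (J ^ (k + 1 + 1)).map (toSec A U.1) = ⊥ :=
    (Ideal.map_eq_bot_iff_le_ker _).2 fun c hc => toSec_eq_zero h (k + 1) U.1 hc
  have h1 := Submodule.smul_mem_smul hb hm
  rw [← Submodule.mul_smul, ← Ideal.map_mul, ← pow_succ', h0, Submodule.bot_smul] at h1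
  exact h1

theorem killed_Kr (k : ℕ) : ClSub.KilledByIdeal (bot i (k + 1)).ker (Kr ψ k) := by
  intro U b hb z
  rw [ker_bot h] at hb
  refine Cohom.app_injective_of_mono (kernel.ι (rho ψ k)) U.1 ?_
  refine ((appLinear (kernel.ι (rho ψ k)) U.1).map_smul b z).trans ?_
  refine (smul_eq_zero_of_mem h hp hF k U hb ?_).trans (map_zero _).symm
  rw [← rho_eq_zero_iff h hp hF ψ k U]
  exact congrArg (fun φ : Kr ψ k ⟶ (Scheme.Modules.pushforward (i k)).obj (F k) => φ.app U.1 z) (kernel.condition _)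

theorem ι_smulMod (k : ℕ) {a : A} (ha : a ∈ J) :
    kernel.ι (rho ψ k) ≫ Formal.smulMod A (F (k + 1)) a = 0 := by
  haveI := (isCoh_Kr h hp hF ψ k).1
  refine FormalExist7.eq_zero_of_app_eq_zero _ fun y => ?_
  obtain ⟨_, ⟨U, hU, rfl⟩, hy, -⟩ :=
    (Xs (k + 1)).isBasis_affineOpens.exists_subset_of_mem_open (Set.mem_univ y) isOpen_univ
  refine ⟨⟨U, hU⟩, hy, fun z => ?_⟩
  refine (Coh.smulAb_app (F (k + 1)) _ (op U) _).trans ?_
  refine smul_eq_zero_of_mem h hp hF k ⟨U, hU⟩ (Ideal.mem_map_of_mem _ ha) ?_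
  rw [← rho_eq_zero_iff h hp hF ψ k ⟨U, hU⟩]
  exact congrArg (fun φ : Kr ψ k ⟶ (Scheme.Modules.pushforward (i k)).obj (F k) => φ.app U z) (kernel.condition _)

theorem exists_chi (k : ℕ) {a : A} (ha : a ∈ J) :
    ∃ χ : (Scheme.Modules.pushforward (i k)).obj (F k) ⟶ F (k + 1),
      rho ψ k ≫ χ = Formal.smulMod A (F (k + 1)) a :=
  haveI := epi_rho h hp hF ψ k
  ⟨Abelian.epiDesc (rho ψ k) _ (ι_smulMod h hp hF ψ k ha), Abelian.comp_epiDesc _ _ _⟩

/-- Multiplication by an element of the ideal, raising the level by one. -/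
def chi (k : ℕ) {a : A} (ha : a ∈ J) : (Scheme.Modules.pushforward (i k)).obj (F k) ⟶ F (k + 1) :=
  (exists_chi h hp hF ψ k ha).choose

theorem rho_chi (k : ℕ) {a : A} (ha : a ∈ J) : rho ψ k ≫ chi h hp hF ψ k ha = Formal.smulMod A (F (k + 1)) a :=
  (exists_chi h hp hF ψ k ha).choose_spec

theorem chi_rho (k : ℕ) {a : A} (ha : a ∈ J) :
    chi h hp hF ψ k ha ≫ rho ψ k = Formal.smulMod A ((Scheme.Modules.pushforward (i k)).obj (F k)) a := by
  haveI := epi_rho h hp hF ψ k
  rw [← cancel_epi (rho ψ k), reassoc_of% rho_chi h hp hF ψ k ha, FormalSys.smulMod_naturality]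

theorem sigma_condition (k : ℕ) {a : A} (ha : a ∈ J) :
    ((Scheme.Modules.pushforward (i (k + 1))).map (kernel.ι (rho ψ k)) ≫ chi h hp hF ψ (k + 1) ha) ≫
      rho ψ (k + 1) = 0 := by
  rw [Category.assoc, chi_rho, smulMod_push _ (i_struct h (k + 1)), ← Functor.map_comp, ι_smulMod h hp hF ψ k ha,
    Functor.map_zero]

/-- Multiplication by an element of the ideal on the kernels. -/
def sigma (k : ℕ) {a : A} (ha : a ∈ J) :
    (Scheme.Modules.pushforward (i (k + 1))).obj (Kr ψ k) ⟶ Kr ψ (k + 1) :=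
  kernel.lift _ _ (sigma_condition h hp hF ψ k ha)

theorem sigma_comm (k : ℕ) {a b : A} (ha : a ∈ J) (hb : b ∈ J) :
    (Scheme.Modules.pushforward (i (k + 1 + 1))).map (sigma h hp hF ψ k ha) ≫ sigma h hp hF ψ (k + 1) hb =
      (Scheme.Modules.pushforward (i (k + 1 + 1))).map (sigma h hp hF ψ k hb) ≫ sigma h hp hF ψ (k + 1) ha := by
  have key : ∀ {a b : A} (ha : a ∈ J) (hb : b ∈ J),
      (rho ψ (k + 1 + 1) ≫ (Scheme.Modules.pushforward (i (k + 1 + 1))).map (rho ψ (k + 1))) ≫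
        (Scheme.Modules.pushforward (i (k + 1 + 1))).map (chi h hp hF ψ (k + 1) ha) ≫ chi h hp hF ψ (k + 1 + 1) hb =
      Formal.smulMod A (F (k + 1 + 1 + 1)) (a * b) := by
    intro a b ha hb
    rw [Category.assoc, ← Functor.map_comp_assoc, rho_chi, ← smulMod_push _ (i_struct h (k + 1 + 1)),
      FormalSys.smulMod_naturality, reassoc_of% rho_chi, ← FormalSys.smulMod_mul, mul_comm]
  haveI := isClosedImmersion_i h (k + 1 + 1)
  haveI := (hF (k + 1 + 1)).1
  haveI := (isCoh_push h hp hF (k + 1) (hF (k + 1))).1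
  haveI := epi_rho h hp hF ψ (k + 1)
  haveI := epi_rho h hp hF ψ (k + 1 + 1)
  haveI := epi_push (i (k + 1 + 1)) (rho ψ (k + 1))
  have hc : (Scheme.Modules.pushforward (i (k + 1 + 1))).map (chi h hp hF ψ (k + 1) ha) ≫ chi h hp hF ψ (k + 1 + 1) hb =
      (Scheme.Modules.pushforward (i (k + 1 + 1))).map (chi h hp hF ψ (k + 1) hb) ≫ chi h hp hF ψ (k + 1 + 1) ha := by
    rw [← cancel_epi (rho ψ (k + 1 + 1) ≫ (Scheme.Modules.pushforward (i (k + 1 + 1))).map (rho ψ (k + 1))),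
      key ha hb, key hb ha, mul_comm]
  rw [← cancel_mono (kernel.ι (rho ψ (k + 1 + 1)))]
  simp only [sigma, Category.assoc, kernel.lift_ι, ← Functor.map_comp_assoc]
  simp only [Functor.map_comp, Category.assoc]
  rw [hc]

theorem jointlyEpi_sigma {r : ℕ} (a : Fin r → A) (haJ : ∀ j, a j ∈ J) (hspan : Ideal.span (Set.range a) = J)
    (k : ℕ) : JointlyEpi fun j => sigma h hp hF ψ k (haJ j) := by
  haveI := (isCoh_Kr h hp hF ψ (k + 1)).1
  haveI := isClosedImmersion_i h (k + 1)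
  refine jointlyEpi_of_sections _ fun y => ?_
  obtain ⟨_, ⟨U, hU, rfl⟩, hy, -⟩ :=
    (Xs (k + 1 + 1)).isBasis_affineOpens.exists_subset_of_mem_open (Set.mem_univ y) isOpen_univ
  refine ⟨⟨U, hU⟩, hy, eq_top_iff.2 fun z _ => ?_⟩
  let U' : (Xs (k + 1)).affineOpens := ⟨i (k + 1) ⁻¹ᵁ U, hU.preimage (i (k + 1))⟩
  let S : Submodule Γ(Xs (k + 1 + 1), U) Γ(F (k + 1 + 1), U) := (J ^ (k + 1)).map (toSec A U) • ⊤
  have hI : J.map (toSec A U) = Ideal.span (toSec A U '' Set.range a) := by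
    rw [← hspan]; exact Ideal.map_span _ _
  have h0 : (rho ψ (k + 1)).app U ((kernel.ι (rho ψ (k + 1))).app U z) = 0 :=
    congrArg (fun φ : Kr ψ (k + 1) ⟶ _ => φ.app U z) (kernel.condition (rho ψ (k + 1)))
  rw [rho_eq_zero_iff h hp hF ψ (k + 1) ⟨U, hU⟩, pow_succ', Ideal.map_mul, hI, Submodule.mul_smul] at h0
  have hz : (kernel.ι (rho ψ (k + 1))).app U z ∈
      (⨆ j, LinearMap.range (appLinear (sigma h hp hF ψ k (haJ j)) U)).map
        (appLinear (kernel.ι (rho ψ (k + 1))) U) := by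
    refine Submodule.smul_induction_on h0 (fun b hb w hw => ?_) fun x y hx hy => add_mem hx hy
    refine Submodule.span_induction (p := fun b _ => ∀ w ∈ S, b • w ∈ _) ?_ (fun w _ => by simp)
      (fun x y _ _ hx hy w hw => by rw [add_smul]; exact add_mem (hx w hw) (hy w hw))
      (fun r x _ hx w hw => by rw [smul_eq_mul, mul_smul]; exact Submodule.smul_mem _ r (hx w hw)) hb w hw
    rintro _ ⟨_, ⟨j, rfl⟩, rfl⟩ w hw
    have hw' : (rho ψ k).app U'.1 ((rho ψ (k + 1)).app U w) = 0 := by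
      refine Submodule.smul_induction_on hw (fun c hc m _ => ?_) fun x y hx hy => by
        rw [map_add]
        refine (map_add ((rho ψ k).app U'.1).hom _ _).trans ?_
        exact (congrArg₂ (· + ·) hx hy).trans (add_zero 0)
      have hc0 : (rho ψ (k + 1)).app U (c • m) =
          (i (k + 1)).app U c • (show Γ(F (k + 1), U'.1) from (rho ψ (k + 1)).app U m) :=
        (appLinear (rho ψ (k + 1)) U).map_smul c m
      refine (congrArg ((rho ψ k).app U'.1) hc0).trans ?_
      refine (rho_eq_zero_iff h hp hF ψ k U' _).2 (Submodule.smul_mem_smul ?_ trivial)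
      have h2 := Ideal.mem_map_of_mem ((i (k + 1)).app U).hom hc
      rw [Ideal.map_map] at h2
      have e : ((i (k + 1)).app U).hom.comp (toSec A U) = toSec A U'.1 := by
        refine RingHom.ext fun c => ?_
        show (i (k + 1)).app U ((Xs (k + 1 + 1)).presheaf.map (homOfLE (le_top : U ≤ ⊤)).op
          (Coh.toGlobal (Xs (k + 1 + 1) ↘ Spec (CommRingCat.of A)) c)) =
          (Xs (k + 1)).presheaf.map (homOfLE (le_top : U'.1 ≤ ⊤)).op (Coh.toGlobal (Xs (k + 1) ↘ Spec (CommRingCat.of A)) c)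
        refine (ConcreteCategory.congr_hom ((i (k + 1)).naturality (homOfLE (le_top : U ≤ ⊤)).op) _).trans ?_
        rw [← i_struct h (k + 1)]
        rfl
      exact e ▸ h2
    obtain ⟨v, hv⟩ := Cohom.sections_exact (QCoh.toAbFun_map_shortExact _
      (ShortComplex.ShortExact.mk' (S := ShortComplex.mk (kernel.ι (rho ψ k)) (rho ψ k) (kernel.condition _))
        (ShortComplex.exact_of_f_is_kernel _ (kernelIsKernel _)) inferInstance (epi_rho h hp hF ψ k))) U'.1 _ hw'
    refine ⟨appLinear (sigma h hp hF ψ k (haJ j)) U v, Submodule.mem_iSup_of_mem j ⟨v, rfl⟩, ?_⟩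
    refine (congrArg (fun φ : (Scheme.Modules.pushforward (i (k + 1))).obj (Kr ψ k) ⟶ F (k + 1 + 1) => φ.app U v)
      (kernel.lift_ι (rho ψ (k + 1)) _ (sigma_condition h hp hF ψ k (haJ j)))).trans ?_
    refine (congrArg ((chi h hp hF ψ (k + 1) (haJ j)).app U) hv).trans ?_
    refine (congrArg (fun φ : F (k + 1 + 1) ⟶ F (k + 1 + 1) => φ.app U w) (rho_chi h hp hF ψ (k + 1) (haJ j))).trans ?_
    exact Coh.smulAb_app (F (k + 1 + 1)) _ (op U) w
  obtain ⟨z', hz', he⟩ := hz
  exact Cohom.app_injective_of_mono (kernel.ι (rho ψ (k + 1))) U he ▸ hz'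

omit h hp hF
/-- The graded pieces, on the closed level. -/
abbrev P (k : ℕ) : (Xs 0).Modules := (Scheme.Modules.pullback (bot i (k + 1))).obj (Kr ψ k)

include h hp hF

theorem isCoh_P (k : ℕ) : Coh.IsCoh (P ψ k) := by
  haveI := isNoetherian_level h hp (k + 1)
  exact FormalExist7.isCoh_pullbackMod _ (isCoh_Kr h hp hF ψ k)

/-- The multiplication maps between the graded pieces. -/
def step (k : ℕ) {a : A} (ha : a ∈ J) : P ψ k ⟶ P ψ (k + 1) :=
  haveI := isClosedImmersion_i h (k + 1)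
  haveI := (isCoh_Kr h hp hF ψ k).1
  haveI := isIso_cmp (i := i) (k + 1) (Kr ψ k)
  inv (cmp (i := i) (k + 1) (Kr ψ k)) ≫
    (Scheme.Modules.pullback (bot i (k + 1 + 1))).map (sigma h hp hF ψ k ha)

theorem step_comm (k : ℕ) {a b : A} (ha : a ∈ J) (hb : b ∈ J) :
    step h hp hF ψ k ha ≫ step h hp hF ψ (k + 1) hb = step h hp hF ψ k hb ≫ step h hp hF ψ (k + 1) ha := by
  haveI := isClosedImmersion_i h (k + 1)
  haveI := isClosedImmersion_i h (k + 1 + 1)
  haveI := (isCoh_Kr h hp hF ψ k).1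
  haveI := (isCoh_Kr h hp hF ψ (k + 1)).1
  haveI := isIso_cmp (i := i) (k + 1) (Kr ψ k)
  haveI := isIso_cmp (i := i) (k + 1 + 1) (Kr ψ (k + 1))
  haveI := (isCoh_push h hp hF (k + 1) (isCoh_Kr h hp hF ψ k)).1
  haveI := isIso_cmp (i := i) (k + 1 + 1) ((Scheme.Modules.pushforward (i (k + 1))).obj (Kr ψ k))
  have key : ∀ {a : A} (ha : a ∈ J),
      (Scheme.Modules.pullback (bot i (k + 1 + 1))).map (sigma h hp hF ψ k ha) ≫
        inv (cmp (i := i) (k + 1 + 1) (Kr ψ (k + 1))) =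
      inv (cmp (i := i) (k + 1 + 1) ((Scheme.Modules.pushforward (i (k + 1))).obj (Kr ψ k))) ≫
        (Scheme.Modules.pullback (bot i (k + 1 + 1 + 1))).map
          ((Scheme.Modules.pushforward (i (k + 1 + 1))).map (sigma h hp hF ψ k ha)) := by
    intro a ha
    rw [IsIso.comp_inv_eq, Category.assoc, IsIso.eq_inv_comp]
    exact (cmp_naturality (k + 1 + 1) (sigma h hp hF ψ k ha)).symm
  simp only [step, Category.assoc]
  rw [reassoc_of% key ha, reassoc_of% key hb, ← Functor.map_comp, ← Functor.map_comp, sigma_comm]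

theorem jointlyEpi_step {r : ℕ} (a : Fin r → A) (haJ : ∀ j, a j ∈ J) (hspan : Ideal.span (Set.range a) = J)
    (k : ℕ) : JointlyEpi fun j => step h hp hF ψ k (haJ j) := by
  intro Q π hπ
  haveI := isClosedImmersion_i h (k + 1)
  haveI := (isCoh_Kr h hp hF ψ k).1
  haveI := isIso_cmp (i := i) (k + 1) (Kr ψ k)
  let e := (Scheme.Modules.pullbackPushforwardAdjunction (bot i (k + 1 + 1))).homEquiv (Kr ψ (k + 1)) Q
  have h1 : e π = 0 := jointlyEpi_sigma h hp hF ψ a haJ hspan k (e π) fun j => by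
    refine ((Scheme.Modules.pullbackPushforwardAdjunction _).homEquiv_naturality_left _ _).symm.trans ?_
    have h2 : (Scheme.Modules.pullback (bot i (k + 1 + 1))).map (sigma h hp hF ψ k (haJ j)) ≫ π = 0 := by
      rw [← cancel_epi (inv (cmp (i := i) (k + 1) (Kr ψ k))), comp_zero, ← Category.assoc]
      exact hπ j
    refine (congrArg ((Scheme.Modules.pullbackPushforwardAdjunction _).homEquiv _ _) h2).trans ?_
    rw [Adjunction.homEquiv_unit, Functor.map_zero, comp_zero]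
  apply e.injective
  rw [h1, Adjunction.homEquiv_unit, Functor.map_zero, comp_zero]

end GrothLib.UnifVanish7
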