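import Groth.Agent.Lib.UnifVanish7.GradedModule
import Groth.Agent.Lib.FormalExist7.SystemAR
import Groth.Agent.Lib.FormalExist7.TrickyAux
import Groth.Agent.Lib.QCoh.DevissageRoots
import Groth.Agent.Lib.SerreVanish.Main

/-!
# Uniform Serre vanishing for finitely generated graded systems of coherent modules

A sequence of coherent modules with commuting maps of degree one, jointly surjective in high degrees,
has higher cohomology vanishing after a twist independent of the degree.
-/

set_option autoImplicit false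
set_option linter.style.haveILetI false
universe u

open CategoryTheory CategoryTheory.Limits AlgebraicGeometry Opposite TopologicalSpace

noncomputable section

namespace GrothLib.UnifVanish7

open GrothLib.Ample (Cocycle)
open GrothLib.QCoh (appLinear stalkLin)

/-- A finite family of maps with the same target that is jointly epimorphic. -/
def JointlyEpi {C : Type*} [Category C] [HasZeroMorphisms C] {ι : Type*} {M : C} {N : C} (f : ι → (M ⟶ N)) : Prop :=
  ∀ ⦃Q : C⦄ (π : N ⟶ Q), (∀ j, f j ≫ π = 0) → π = 0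

variable {X : Scheme.{u}}

attribute [local instance] Abelian.hasFiniteBiproducts

/-- A jointly epimorphic family spans the sections on an affine open. -/
theorem iSup_range_eq_top [IsLocallyNoetherian X] {r : ℕ} {M N : X.Modules} (hM : Coh.IsCoh M) (hN : Coh.IsCoh N)
    (f : Fin r → (M ⟶ N)) (h : JointlyEpi f) {U : X.Opens} (hU : IsAffineOpen U) :
    ⨆ j, LinearMap.range (appLinear (f j) U) = (⊤ : Submodule Γ(X, U) Γ(N, U)) := by
  haveI : Epi (biproduct.desc f) := Preadditive.epi_of_cancel_zero _ fun g hg => h g fun j => by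
    rw [← biproduct.ι_desc f j, Category.assoc, hg, comp_zero]
  refine eq_top_iff.2 fun z _ => ?_
  obtain ⟨w, rfl⟩ := FormalExist7.app_surjective_of_epi (biproduct.desc f)
    (QCoh.isCoh_biproduct_fin _ fun _ => hM) hN hU z
  let ev : (⨁ (fun _ : Fin r => M) ⟶ N) →+ Γ(N, U) :=
    { toFun := fun p => p.app U w
      map_zero' := rfl
      map_add' := fun p q => by rw [Scheme.Modules.Hom.add_app]; rfl }
  have h1 := congrArg ev (biproduct.desc_eq (g := f))
  rw [map_sum] at h1
  refine (show (biproduct.desc f).app U w = _ from h1) ▸ Submodule.sum_mem _ fun j _ => ?_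
  exact Submodule.mem_iSup_of_mem j ⟨(biproduct.π (fun _ : Fin r => M) j).app U w, rfl⟩

/-- A family spanning the sections on the members of an affine cover is jointly epimorphic. -/
theorem jointlyEpi_of_sections {ι : Type*} {M N : X.Modules} [N.IsQuasicoherent] (f : ι → (M ⟶ N))
    (h : ∀ y : X, ∃ U : X.affineOpens, y ∈ U.1 ∧
      ⨆ j, LinearMap.range (appLinear (f j) U.1) = (⊤ : Submodule Γ(X, U.1) Γ(N, U.1))) : JointlyEpi f := by
  intro Q π hπ
  refine FormalExist7.eq_zero_of_app_eq_zero π fun y => ?_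
  obtain ⟨U, hy, hU⟩ := h y
  refine ⟨U, hy, fun z => ?_⟩
  refine Submodule.iSup_induction (fun j => LinearMap.range (appLinear (f j) U.1))
    (motive := fun z => appLinear π U.1 z = 0) (hU.symm ▸ Submodule.mem_top : z ∈ _) ?_ (map_zero _) ?_
  · rintro j _ ⟨x, rfl⟩
    exact congrArg (fun φ : M ⟶ Q => φ.app U.1 x) (hπ j)
  · intro a b ha hb
    rw [map_add, ha, hb, add_zero]

/-- A subsystem of a finitely generated system is finitely generated. -/
theorem exists_jointlyEpi_sub [IsNoetherian X] {r : ℕ} (G : ℕ → X.Modules) (hG : ∀ k, Coh.IsCoh (G k))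
    (t : Fin r → ∀ k, G k ⟶ G (k + 1)) (hcomm : ∀ i j k, t i k ≫ t j (k + 1) = t j k ≫ t i (k + 1))
    (d : ℕ) (hgen : ∀ k, d ≤ k → JointlyEpi fun j => t j k)
    (K : ℕ → X.Modules) (hK : ∀ k, Coh.IsCoh (K k)) (ι : ∀ k, K k ⟶ G k) [∀ k, Mono (ι k)]
    (s : Fin r → ∀ k, K k ⟶ K (k + 1)) (hs : ∀ j k, s j k ≫ ι (k + 1) = ι k ≫ t j k) :
    ∃ d', ∀ k, d' ≤ k → JointlyEpi fun j => s j k := by
  classical
  obtain ⟨T, hT⟩ := isCompact_univ.elim_finite_subcover (fun W : X.affineOpens => (W.1 : Set X))
    (fun W => W.1.2) fun x _ => by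
      obtain ⟨_, ⟨Z, hZ, rfl⟩, hx, -⟩ :=
        X.isBasis_affineOpens.exists_subset_of_mem_open (Set.mem_univ x) isOpen_univ
      exact Set.mem_iUnion.2 ⟨⟨Z, hZ⟩, hx⟩
  have hW : ∀ W : X.affineOpens, ∃ d', ∀ k, d' ≤ k →
      ⨆ j, LinearMap.range (appLinear (s j k) W.1) = (⊤ : Submodule Γ(X, W.1) Γ(K (k + 1), W.1)) := fun W => by
    haveI : IsNoetherianRing Γ(X, W.1) := IsLocallyNoetherian.component_noetherian W
    haveI : ∀ k, Module.Finite Γ(X, W.1) Γ(G k, W.1) := fun k =>
      haveI := (hG k).1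
      QCoh.moduleFinite_of_isFiniteType (G k) (hG k).2 W.2
    obtain ⟨d', hd'⟩ := exists_subfamily_generated (fun k => Γ(G k, W.1)) (fun j k => appLinear (t j k) W.1)
      (fun i j k => LinearMap.ext fun x => congrArg (fun φ : G k ⟶ G (k + 1 + 1) => φ.app W.1 x) (hcomm i j k))
      d (fun k hk => iSup_range_eq_top (hG k) (hG (k + 1)) _ (hgen k hk) W.2)
      (fun k => LinearMap.range (appLinear (ι k) W.1))
      (fun j k => by
        rintro _ ⟨_, ⟨x, rfl⟩, rfl⟩
        exact ⟨appLinear (s j k) W.1 x, congrArg (fun φ : K k ⟶ G (k + 1) => φ.app W.1 x) (hs j k)⟩)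
    refine ⟨d', fun k hk => eq_top_iff.2 fun z _ => ?_⟩
    have h1 := hd' k hk ⟨z, rfl⟩
    have h2 : (⨆ j, (LinearMap.range (appLinear (ι k) W.1)).map (appLinear (t j k) W.1)) ≤
        (⨆ j, LinearMap.range (appLinear (s j k) W.1)).map (appLinear (ι (k + 1)) W.1) := by
      refine iSup_le fun j => ?_
      rintro _ ⟨_, ⟨x, rfl⟩, rfl⟩
      exact ⟨appLinear (s j k) W.1 x, Submodule.mem_iSup_of_mem j ⟨x, rfl⟩,
        congrArg (fun φ : K k ⟶ G (k + 1) => φ.app W.1 x) (hs j k)⟩
    obtain ⟨z', hz', he⟩ := h2 h1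
    exact Cohom.app_injective_of_mono (ι (k + 1)) W.1 he ▸ hz'
  choose dd hdd using hW
  refine ⟨T.sup dd, fun k hk => ?_⟩
  haveI := (hK (k + 1)).1
  refine jointlyEpi_of_sections _ fun y => ?_
  obtain ⟨W, hWT, hy⟩ := Set.mem_iUnion₂.1 (hT (Set.mem_univ y))
  exact ⟨W, hy, hdd W k ((Finset.le_sup hWT).trans hk)⟩

variable (c : Cocycle X) (A : Type u) [CommRing A] [X.Over (Spec (CommRingCat.of A))]

theorem mtwistMap_id (M : X.Modules) (n : ℕ) : c.mtwistMap (𝟙 M) n = 𝟙 (c.modTwist M n) :=
  Scheme.Modules.hom_ext _ _ fun V => by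
    ext (b : c.msect M n V)
    rfl

include A in
theorem subsingleton_HH_of_id_eq_zero {M : X.Modules} (h : 𝟙 M = 0) (q : ℕ) : Subsingleton (Coh.HH X M q) := by
  refine subsingleton_of_forall_eq 0 fun x => ?_
  rw [← SerreVanish.hhMap_id A q x, h, Cohom.hhMap_apply, Functor.map_zero, Cohom.H_map_eq_comp,
    Abelian.Ext.mk₀_zero, Abelian.Ext.comp_zero]

variable [IsNoetherianRing A] [IsProper (X ↘ Spec (CommRingCat.of A))]

include A in
/-- Uniform vanishing for a finitely generated system. -/
theorem exists_uniform_vanish (hc : c.IsAmp) : ∀ (r : ℕ) (G : ℕ → X.Modules) (_ : ∀ k, Coh.IsCoh (G k))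
    (t : Fin r → ∀ k, G k ⟶ G (k + 1)) (_ : ∀ i j k, t i k ≫ t j (k + 1) = t j k ≫ t i (k + 1))
    (d : ℕ) (_ : ∀ k, d ≤ k → JointlyEpi fun j => t j k),
    ∃ n₀, ∀ n, n₀ ≤ n → ∀ k q, 1 ≤ q → Subsingleton (Coh.HH X (c.modTwist (G k) n) q) := by
  haveI := SerreVanish.isNoetherian_of_proper (X := X) A
  intro r
  induction r with
  | zero =>
    intro G hG t _ d hgen
    choose n₀ hn₀ using fun k => SerreVanish.evAcyclic c A hc (hG k)
    refine ⟨(Finset.range (d + 1)).sup n₀, fun n hn k q hq => ?_⟩
    by_cases hk : k ≤ d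
    · exact hn₀ k n ((Finset.le_sup (Finset.mem_range.2 (by omega))).trans hn) q hq
    obtain ⟨k, rfl⟩ : ∃ k', k = k' + 1 := ⟨k - 1, by omega⟩
    refine subsingleton_HH_of_id_eq_zero A ?_ q
    rw [← mtwistMap_id, hgen k (by omega) (𝟙 _) fun j => j.elim0, SerreVanish.mtwistMap_zero]
  | succ r ih =>
    intro G hG t hcomm d hgen
    let L := Fin.last r
    -- the cokernels
    let C : ℕ → X.Modules := fun k => match k with
      | 0 => G 0
      | k + 1 => cokernel (t L k)
    let π : ∀ k, G k ⟶ C k := fun k => match k with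
      | 0 => 𝟙 (G 0)
      | k + 1 => cokernel.π (t L k)
    have hC : ∀ k, Coh.IsCoh (C k) := fun k => by
      cases k with
      | zero => exact hG 0
      | succ k => exact QCoh.isCoh_cokernel (t L k) (hG k) (hG (k + 1))
    haveI hπ : ∀ k, Epi (π k) := fun k => by
      cases k with
      | zero => exact (inferInstance : Epi (𝟙 (G 0)))
      | succ k => exact (inferInstance : Epi (cokernel.π (t L k)))
    have hs : ∀ (j : Fin r) k, ∃ s : C k ⟶ C (k + 1), π k ≫ s = t j.castSucc k ≫ π (k + 1) := fun j k => by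
      cases k with
      | zero => exact ⟨t j.castSucc 0 ≫ π 1, Category.id_comp _⟩
      | succ k =>
        refine ⟨cokernel.desc _ (t j.castSucc (k + 1) ≫ π (k + 1 + 1)) ?_, cokernel.π_desc _ _ _⟩
        rw [reassoc_of% hcomm L j.castSucc k]
        exact (congrArg _ (cokernel.condition (t L (k + 1)))).trans comp_zero
    choose s hs using hs
    obtain ⟨nC, hnC⟩ := ih C hC s (fun i j k => by
        refine (cancel_epi (π k)).1 ?_
        rw [← Category.assoc, ← Category.assoc, hs i k, hs j k, Category.assoc, Category.assoc]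
        refine (congrArg (t i.castSucc k ≫ ·) (hs j (k + 1))).trans
          (Eq.trans ?_ (congrArg (t j.castSucc k ≫ ·) (hs i (k + 1))).symm)
        exact (reassoc_of% (hcomm i.castSucc j.castSucc k)) _)
      d (fun k hk Q g hg => by
        rw [← cancel_epi (π (k + 1)), comp_zero]
        refine hgen k hk _ fun j => ?_
        induction j using Fin.lastCases with
        | last => exact (reassoc_of% cokernel.condition (t L k)) g |>.trans zero_comp
        | cast j => rw [← reassoc_of% hs, hg, comp_zero])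
    -- the kernels
    let K : ℕ → X.Modules := fun k => kernel (t L k)
    have hK : ∀ k, Coh.IsCoh (K k) := fun k => QCoh.isCoh_kernel (t L k) (hG k) (hG (k + 1))
    let u : Fin (r + 1) → ∀ k, K k ⟶ K (k + 1) := fun j k =>
      kernel.lift _ (kernel.ι (t L k) ≫ t j k)
        (by rw [Category.assoc, hcomm j L k, kernel.condition_assoc, zero_comp])
    obtain ⟨dK, hdK⟩ := exists_jointlyEpi_sub G hG t hcomm d hgen K hK (fun k => kernel.ι (t L k)) u
      fun j k => kernel.lift_ι _ _ _
    have hu : ∀ k, u L k = 0 := fun k => by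
      rw [← cancel_mono (kernel.ι (t L (k + 1))), zero_comp, kernel.lift_ι, kernel.condition]
    obtain ⟨nK, hnK⟩ := ih K hK (fun j => u j.castSucc) (fun i j k => by
        rw [← cancel_mono (kernel.ι (t L (k + 1 + 1))), Category.assoc, Category.assoc, kernel.lift_ι,
          kernel.lift_ι, kernel.lift_ι_assoc, kernel.lift_ι_assoc, Category.assoc, Category.assoc, hcomm])
      dK (fun k hk Q g hg => hdK k hk g fun j => by
        induction j using Fin.lastCases with
        | last => exact (congrArg (· ≫ g) (hu k)).trans zero_comp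
        | cast j => exact hg j)
    refine ⟨max nC nK, fun n hn k => ?_⟩
    have hnC' := hnC n (le_trans (le_max_left _ _) hn)
    have hnK' := hnK n (le_trans (le_max_right _ _) hn)
    induction k with
    | zero => exact fun q hq => hnC' 0 q hq
    | succ k ihk =>
      intro q hq
      let μ := t L k
      have hI : Subsingleton (Coh.HH X (c.modTwist (Abelian.image μ) n) q) := by
        refine subsingleton_of_forall_eq 0 fun y => ?_
        obtain ⟨z, rfl⟩ := (Cohom.exact₃ (A := A)
          (SerreVanish.twistSeq_shortExact c n (Euler.kernelSeq_shortExact μ)) q y).1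
          (@Subsingleton.elim _ (hnK' k (q + 1) (by omega)) _ _)
        rw [@Subsingleton.elim _ (ihk q hq) z 0, map_zero]
      refine subsingleton_of_forall_eq 0 fun y => ?_
      obtain ⟨z, rfl⟩ := (Cohom.exact₂ (A := A)
        (SerreVanish.twistSeq_shortExact c n (Euler.imageSeq_shortExact μ)) q y).1
        (@Subsingleton.elim _ (hnC' (k + 1) q hq) _ _)
      rw [@Subsingleton.elim _ hI z 0, map_zero]

end GrothLib.UnifVanish7
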