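import Groth.Agent.Lib.FormalExist7.IdealSys
import Groth.Agent.Lib.GrpdQuot.QuotCriteria
import Groth.Agent.Lib.Neutral.NilLiftAlg

/-!
# A thickening by a nilpotent ideal of the base preserves finite type and properness
-/

set_option autoImplicit false
set_option linter.style.haveILetI false
universe u

open CategoryTheory CategoryTheory.Limits AlgebraicGeometry Opposite TopologicalSpace

noncomputable section

namespace GrothLib.UnifVanish7

open GrothLib.FormalFun (toSec)

variable {B B' : Type u} [CommRing B] [CommRing B'] (φ : B →+* B') (hφ : Function.Surjective φ)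
  {X Y : Scheme.{u}} {i : X ⟶ Y} {p : X ⟶ Spec (CommRingCat.of B')} [Y.Over (Spec (CommRingCat.of B))]
  (h : IsPullback i p (Y ↘ Spec (CommRingCat.of B)) (Spec.map (CommRingCat.ofHom φ)))

include hφ h

theorem isClosedImmersion_of_square : IsClosedImmersion i :=
  MorphismProperty.of_isPullback h.flip (IsClosedImmersion.spec_of_surjective (CommRingCat.ofHom φ) hφ)

theorem ker_of_square : i.ker = (Spec.map (CommRingCat.ofHom φ)).ker.comap (Y ↘ Spec (CommRingCat.of B)) := by
  haveI : IsClosedImmersion (Spec.map (CommRingCat.ofHom φ)) :=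
    IsClosedImmersion.spec_of_surjective _ hφ
  rw [← h.isoPullback_hom_fst, Scheme.Hom.ker_comp_of_isIso]
  exact Scheme.IdealSheafData.ker_fst_of_isClosedImmersion _ _

theorem ideal_ker_of_square (U : Y.affineOpens) : i.ker.ideal U = (RingHom.ker φ).map (toSec B U.1) := by
  rw [ker_of_square φ hφ h, BlowUp.ideal_comap_eq_map _ (Y ↘ Spec (CommRingCat.of B))
    ⟨⊤, isAffineOpen_top _⟩ U le_top, FSchSys.ideal_ker_SpecMap, Ideal.map_map]
  rfl

variable (hn : IsNilpotent (RingHom.ker φ))

include hn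

theorem surjective_of_square : Surjective i := by
  haveI : Surjective (Spec.map (CommRingCat.ofHom φ)) := by
    obtain ⟨n, hn⟩ := hn
    refine ⟨fun x => ?_⟩
    have hx : RingHom.ker φ ≤ x.asIdeal := fun b hb => x.isPrime.mem_of_pow_mem n (by
      have := Ideal.pow_mem_pow hb n
      rw [hn] at this
      rw [(Submodule.mem_bot _).1 this]
      exact x.asIdeal.zero_mem)
    obtain ⟨z, hz⟩ := (range_comap_of_surjective B' φ hφ).ge (show x ∈ PrimeSpectrum.zeroLocus (RingHom.ker φ : Set B) from hx)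
    exact ⟨z, hz⟩
  exact MorphismProperty.of_isPullback h.flip ‹_›

/-- Finite type lifts along the thickening. -/
theorem locallyOfFiniteType_of_square [LocallyOfFiniteType p] :
    LocallyOfFiniteType (Y ↘ Spec (CommRingCat.of B)) := by
  haveI := isClosedImmersion_of_square φ hφ h
  haveI : IsClosedImmersion (Spec.map (CommRingCat.ofHom φ)) :=
    IsClosedImmersion.spec_of_surjective _ hφ
  haveI : LocallyOfFiniteType (i ≫ (Y ↘ Spec (CommRingCat.of B))) := by rw [h.w]; infer_instance
  refine HasRingHomProperty.of_iSup_eq_top (P := @LocallyOfFiniteType) (fun U : Y.affineOpens => U)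
    (eq_top_iff.2 fun y _ => ?_) fun U => ?_
  · obtain ⟨_, ⟨Z, hZ, rfl⟩, hy, -⟩ := Y.isBasis_affineOpens.exists_subset_of_mem_open (Set.mem_univ y) isOpen_univ
    exact Opens.mem_iSup.2 ⟨⟨Z, hZ⟩, hy⟩
  let g := Y ↘ Spec (CommRingCat.of B)
  have h1 : ((i.app U.1).hom.comp (toSec B U.1)).FiniteType := by
    have h0 := Scheme.Hom.finiteType_appLE (i ≫ g) (isAffineOpen_top _) (U.2.preimage i) le_top
    have e : (i ≫ g).appLE ⊤ (i ⁻¹ᵁ U.1) le_top = g.appLE ⊤ U.1 le_top ≫ i.app U.1 := by
      rw [i.app_eq_appLE, Scheme.Hom.appLE_comp_appLE]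
    rw [e] at h0
    exact h0.comp (RingHom.FiniteType.of_surjective _
      (ConcreteCategory.bijective_of_isIso (Scheme.ΓSpecIso (CommRingCat.of B)).inv).2)
  letI : Algebra B Γ(Y, U.1) := (toSec B U.1).toAlgebra
  letI : Algebra B Γ(X, i ⁻¹ᵁ U.1) := ((i.app U.1).hom.comp (toSec B U.1)).toAlgebra
  let f : Γ(Y, U.1) →ₐ[B] Γ(X, i ⁻¹ᵁ U.1) := { (i.app U.1).hom with commutes' := fun b => rfl }
  have hk : RingHom.ker f = (RingHom.ker φ).map (algebraMap B Γ(Y, U.1)) := by
    have := ideal_ker_of_square φ hφ h U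
    rw [Scheme.Hom.ker_apply] at this
    exact this
  haveI hX : Algebra.FiniteType B Γ(X, i ⁻¹ᵁ U.1) := h1
  have hq : Algebra.FiniteType B (Γ(Y, U.1) ⧸ (RingHom.ker φ).map (algebraMap B Γ(Y, U.1))) :=
    hX.equiv ((Ideal.quotientKerAlgEquivOfSurjective (f := f) (i.app_surjective U.1 U.2)).symm.trans
      (Ideal.quotientEquivAlgOfEq B hk))
  have h2 : (toSec B U.1).FiniteType := Neutral.finiteType_of_nilpotent hn hq
  exact RingHom.FiniteType.of_comp_finiteType
    (f := (Scheme.ΓSpecIso (CommRingCat.of B)).inv.hom) h2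

/-- Properness lifts along the thickening. -/
theorem isProper_of_square [IsProper p] : IsProper (Y ↘ Spec (CommRingCat.of B)) := by
  haveI := isClosedImmersion_of_square φ hφ h
  haveI := surjective_of_square φ hφ h hn
  haveI : IsClosedImmersion (Spec.map (CommRingCat.ofHom φ)) :=
    IsClosedImmersion.spec_of_surjective _ hφ
  haveI := locallyOfFiniteType_of_square φ hφ h hn
  haveI : IsProper (i ≫ (Y ↘ Spec (CommRingCat.of B))) := by rw [h.w]; infer_instance
  haveI := GrpdQuot.isSeparated_of_comp_surjective i (Y ↘ Spec (CommRingCat.of B))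
  haveI : UniversallyClosed (Y ↘ Spec (CommRingCat.of B)) := .of_comp_surjective i _
  exact {}

end GrothLib.UnifVanish7
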