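import Groth.Agent.Lib.Ample.Frame
import Groth.Agent.Lib.Ample.Criterion
import Groth.Agent.Lib.Ample.VanishCriterion

/-!
# From twists by a cocycle to tensor powers of an invertible module
-/

set_option autoImplicit false
universe u

open CategoryTheory CategoryTheory.Limits AlgebraicGeometry

noncomputable section

namespace GrothLib.UnifVanish7

open GrothLib.Ample (Cocycle)

variable {X : Scheme.{u}} (c : Cocycle X)

theorem nonempty_tensorPow_modTwist {L : X.Modules} (e : L ≅ c.twist 1) (M : X.Modules) (n : ℕ) :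
    Nonempty (CohB1.tensorMod M (CohB1.tensorPow L n) ≅ c.modTwist M n) := by
  obtain ⟨d⟩ := c.nonempty_tensorPow_iso e n
  obtain ⟨q⟩ := c.nonempty_tensor_modTwist M n
  exact ⟨((DCoh.tensorBi (X := X)).obj M).mapIso d ≪≫ q⟩

theorem subsingleton_HH_tensor {L : X.Modules} (e : L ≅ c.twist 1) {M : X.Modules} {n q : ℕ}
    (h : Subsingleton (Coh.HH X (c.modTwist M n) q)) :
    Subsingleton (Coh.HH X (CohB1.tensorMod M (CohB1.tensorPow L n)) q) := by
  obtain ⟨i⟩ := nonempty_tensorPow_modTwist c e M n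
  letI : X.Over (Spec (CommRingCat.of Γ(X, ⊤))) := ⟨X.toSpecΓ⟩
  exact (GrothLib.Euler.hhEquiv (A := Γ(X, ⊤)) i q).toEquiv.subsingleton

end GrothLib.UnifVanish7
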