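import Mathlib.Algebra.DirectSum.Module
import Mathlib.Algebra.MvPolynomial.Eval
import Mathlib.RingTheory.Polynomial.Basic
import Mathlib.RingTheory.Adjoin.Basic
import Mathlib.RingTheory.Finiteness.Basic

/-!
# Finitely generated graded families of modules with commuting maps of degree one
-/

set_option autoImplicit false
universe u v

open scoped DirectSum

namespace GrothLib.UnifVanish7

/-- Stable subfamilies of a family generated in bounded degree are generated in bounded degree. -/
theorem exists_subfamily_generated {B : Type u} [CommRing B] [IsNoetherianRing B] {r : ℕ}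
    (M : ℕ → Type v) [∀ k, AddCommGroup (M k)] [∀ k, Module B (M k)] [∀ k, Module.Finite B (M k)]
    (t : Fin r → ∀ k, M k →ₗ[B] M (k + 1))
    (hcomm : ∀ i j k, (t j (k + 1)).comp (t i k) = (t i (k + 1)).comp (t j k))
    (d : ℕ) (hgen : ∀ k, d ≤ k → ⨆ j, LinearMap.range (t j k) = ⊤)
    (S : ∀ k, Submodule B (M k)) (hS : ∀ j k, (S k).map (t j k) ≤ S (k + 1)) :
    ∃ d' : ℕ, ∀ k, d' ≤ k → S (k + 1) ≤ ⨆ j, (S k).map (t j k) := by
  classical
  let D := ⨁ k, M k
  let T : Fin r → Module.End B D := fun j =>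
    DirectSum.toModule B ℕ D fun k => (DirectSum.lof B ℕ M (k + 1)).comp (t j k)
  have hT : ∀ j k (x : M k), T j (DirectSum.lof B ℕ M k x) = DirectSum.lof B ℕ M (k + 1) (t j k x) := fun j k x =>
    DirectSum.toModule_lof B k x
  have hTc : ∀ i j, T i * T j = T j * T i := fun i j => by
    refine DirectSum.linearMap_ext (R := B) fun k => LinearMap.ext fun x => ?_
    show T i (T j (DirectSum.lof B ℕ M k x)) = T j (T i (DirectSum.lof B ℕ M k x))
    rw [hT, hT, hT, hT]
    exact congrArg _ (LinearMap.congr_fun (hcomm j i k) x)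
  letI : CommRing (Algebra.adjoin B (Set.range T)) := Algebra.adjoinCommRingOfComm B (by
    rintro _ ⟨i, rfl⟩ _ ⟨j, rfl⟩; exact hTc i j)
  let φ : MvPolynomial (Fin r) B →+* Module.End B D :=
    ((Algebra.adjoin B (Set.range T)).val.comp
      (MvPolynomial.aeval fun j => (⟨T j, Algebra.subset_adjoin ⟨j, rfl⟩⟩ : Algebra.adjoin B (Set.range T)))).toRingHom
  letI : Module (MvPolynomial (Fin r) B) D := Module.compHom D φ
  have hsmul : ∀ (p : MvPolynomial (Fin r) B) (x : D), p • x = φ p x := fun p x => rfl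
  have hC : ∀ (b : B) (x : D), MvPolynomial.C (σ := Fin r) b • x = b • x := fun b x => by
    rw [hsmul]
    simp [φ, Algebra.algebraMap_eq_smul_one]
  haveI : IsScalarTower B (MvPolynomial (Fin r) B) D := IsScalarTower.of_algebraMap_smul fun b x => hC b x
  have hX : ∀ j (x : D), MvPolynomial.X j • x = T j x := fun j x => by
    rw [hsmul]
    simp [φ]
  have hlow : ∀ k, Submodule.span (MvPolynomial (Fin r) B)
      (⋃ i ∈ Finset.range (d + 1), Set.range (DirectSum.lof B ℕ M i)) ≥
      Submodule.span (MvPolynomial (Fin r) B) (Set.range (DirectSum.lof B ℕ M k)) := by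
    intro k
    induction k using Nat.strong_induction_on with
    | _ k ih =>
      refine Submodule.span_le.2 ?_
      rintro _ ⟨x, rfl⟩
      by_cases hk : k ≤ d
      · exact Submodule.subset_span (Set.mem_iUnion₂.2 ⟨k, Finset.mem_range.2 (by omega), x, rfl⟩)
      obtain ⟨k, rfl⟩ : ∃ k', k = k' + 1 := ⟨k - 1, by omega⟩
      have hx : x ∈ ⨆ j, LinearMap.range (t j k) := (hgen k (by omega)).symm ▸ Submodule.mem_top
      refine Submodule.iSup_induction _ (motive := fun x => DirectSum.lof B ℕ M (k + 1) x ∈ _) hx ?_ ?_ ?_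
      · rintro j _ ⟨y, rfl⟩
        rw [← hT, ← hX]
        exact Submodule.smul_mem _ _ (ih k (by omega) (Submodule.subset_span ⟨y, rfl⟩))
      · rw [map_zero]; exact Submodule.zero_mem _
      · intro a b ha hb
        rw [map_add]; exact Submodule.add_mem _ ha hb
  haveI : Module.Finite (MvPolynomial (Fin r) B) D := by
    choose s hs using fun i => (Module.finite_def.1 (inferInstance : Module.Finite B (M i)))
    refine ⟨⟨(Finset.range (d + 1)).biUnion fun i => (s i).image (DirectSum.lof B ℕ M i), eq_top_iff.2 fun x _ => ?_⟩⟩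
    have h1 : Submodule.span (MvPolynomial (Fin r) B)
        (⋃ i ∈ Finset.range (d + 1), Set.range (DirectSum.lof B ℕ M i)) ≤ Submodule.span (MvPolynomial (Fin r) B)
        ↑((Finset.range (d + 1)).biUnion fun i => (s i).image (DirectSum.lof B ℕ M i)) := by
      refine Submodule.span_le.2 fun y hy => ?_
      obtain ⟨i, hi, z, rfl⟩ := Set.mem_iUnion₂.1 hy
      have hz : z ∈ Submodule.span B (s i : Set (M i)) := (hs i).symm ▸ Submodule.mem_top
      have h2 : DirectSum.lof B ℕ M i z ∈ Submodule.span B
          ((DirectSum.lof B ℕ M i) '' (s i : Set (M i))) := by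
        rw [← Submodule.map_span]; exact ⟨z, hz, rfl⟩
      refine Submodule.span_mono ?_ (Submodule.span_le_restrictScalars B (MvPolynomial (Fin r) B) _ h2)
      rintro _ ⟨w, hw, rfl⟩
      exact Finset.mem_coe.2 (Finset.mem_biUnion.2 ⟨i, hi, Finset.mem_image_of_mem _ hw⟩)
    induction x using DirectSum.induction_on with
    | zero => exact Submodule.zero_mem _
    | of i z => exact h1 (hlow i (Submodule.subset_span ⟨z, rfl⟩))
    | add a b ha hb => exact Submodule.add_mem _ (ha trivial) (hb trivial)
  -- stability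
  have hTapp : ∀ j (x : D) k, (T j x) (k + 1) = t j k (x k) := by
    intro j x k
    induction x using DirectSum.induction_on with
    | zero => simp
    | of i z =>
      rw [show DirectSum.of M i z = DirectSum.lof B ℕ M i z from rfl, hT]
      by_cases h : i = k
      · subst h; simp [DirectSum.lof_eq_of]
      · simp [DirectSum.lof_eq_of, DirectSum.of_eq_of_ne _ _ _ (Ne.symm h),
          DirectSum.of_eq_of_ne _ _ _ (show k + 1 ≠ i + 1 by omega)]
    | add a b ha hb => rw [map_add, DirectSum.add_apply, DirectSum.add_apply, ha, hb, map_add]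
  have hTzero : ∀ j (x : D), (T j x) 0 = 0 := by
    intro j x
    induction x using DirectSum.induction_on with
    | zero => simp
    | of i z =>
      rw [show DirectSum.of M i z = DirectSum.lof B ℕ M i z from rfl, hT]
      simp [DirectSum.lof_eq_of, DirectSum.of_eq_of_ne _ _ _ (show 0 ≠ i + 1 by omega)]
    | add a b ha hb => rw [map_add, DirectSum.add_apply, ha, hb, add_zero]
  have hpoly : ∀ (P : Set D) (_ : (0 : D) ∈ P) (_ : ∀ a b, a ∈ P → b ∈ P → a + b ∈ P)
      (_ : ∀ (b : B) x, x ∈ P → b • x ∈ P) (_ : ∀ j x, x ∈ P → T j x ∈ P)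
      (p : MvPolynomial (Fin r) B) (x : D), x ∈ P → p • x ∈ P := by
    intro P h0 ha hb hj p
    induction p using MvPolynomial.induction_on with
    | C b => intro x hx; rw [hC]; exact hb b x hx
    | add a b h1 h2 => intro x hx; rw [add_smul]; exact ha _ _ (h1 x hx) (h2 x hx)
    | mul_X a j h1 => intro x hx; rw [mul_smul, hX]; exact h1 _ (hj j x hx)
  let N : Submodule (MvPolynomial (Fin r) B) D :=
    { carrier := {x | ∀ k, x k ∈ S k}
      add_mem' := fun {a b} ha hb k => Submodule.add_mem _ (ha k) (hb k)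
      zero_mem' := fun k => Submodule.zero_mem _
      smul_mem' := fun p x hx => hpoly {x | ∀ k, x k ∈ S k} (fun k => Submodule.zero_mem _)
        (fun a b ha hb k => Submodule.add_mem _ (ha k) (hb k))
        (fun b x hx k => by rw [DirectSum.smul_apply]; exact Submodule.smul_mem _ b (hx k))
        (fun j x hx k => by
          cases k with
          | zero => rw [hTzero]; exact Submodule.zero_mem _
          | succ k => rw [hTapp]; exact hS j k ⟨_, hx k, rfl⟩) p x hx }
  obtain ⟨F, hF⟩ := IsNoetherian.noetherian N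
  let d' := F.sup fun x : D => (DFinsupp.support x).sup id
  let W : Submodule (MvPolynomial (Fin r) B) D :=
    { carrier := {x | x ∈ N ∧ ∀ k, d' ≤ k → x (k + 1) ∈ ⨆ j, (S k).map (t j k)}
      add_mem' := fun {a b} ha hb => ⟨N.add_mem ha.1 hb.1, fun k hk => Submodule.add_mem _ (ha.2 k hk) (hb.2 k hk)⟩
      zero_mem' := ⟨N.zero_mem, fun k _ => Submodule.zero_mem _⟩
      smul_mem' := fun p x hx => hpoly {x | x ∈ N ∧ ∀ k, d' ≤ k → x (k + 1) ∈ ⨆ j, (S k).map (t j k)}
        ⟨N.zero_mem, fun k _ => Submodule.zero_mem _⟩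
        (fun a b ha hb => ⟨N.add_mem ha.1 hb.1, fun k hk => Submodule.add_mem _ (ha.2 k hk) (hb.2 k hk)⟩)
        (fun b x hx => ⟨(hC b x) ▸ N.smul_mem (MvPolynomial.C b) hx.1,
          fun k hk => by rw [DirectSum.smul_apply]; exact Submodule.smul_mem _ b (hx.2 k hk)⟩)
        (fun j x hx => ⟨(hX j x) ▸ N.smul_mem (MvPolynomial.X j) hx.1, fun k _ => by
          rw [hTapp]; exact Submodule.mem_iSup_of_mem j ⟨_, hx.1 k, rfl⟩⟩) p x hx }
  have hNW : N ≤ W := by
    rw [← hF]
    refine Submodule.span_le.2 fun x hx => ⟨hF ▸ Submodule.subset_span hx, fun k hk => ?_⟩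
    have h0 : x (k + 1) = 0 := by
      by_contra hne
      have h1 : k + 1 ≤ (DFinsupp.support x).sup id :=
        Finset.le_sup (f := id) (DFinsupp.mem_support_iff.2 hne)
      have h2 : (DFinsupp.support x).sup id ≤ d' :=
        Finset.le_sup (f := fun x : D => (DFinsupp.support x).sup id) hx
      omega
    rw [h0]; exact Submodule.zero_mem _
  refine ⟨d', fun k hk z hz => ?_⟩
  have hzN : DirectSum.lof B ℕ M (k + 1) z ∈ N := fun i => by
    by_cases h : i = k + 1
    · subst h; simpa [DirectSum.lof_eq_of] using hz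
    · simp [DirectSum.lof_eq_of, DirectSum.of_eq_of_ne _ _ _ h]
  simpa [DirectSum.lof_eq_of] using (hNW hzN).2 k hk

end GrothLib.UnifVanish7
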