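import Groth.Agent.Lib.UnifVanish7.Main
import Groth.Agent.Lib.FormalExist7.Projective

/-!
# Uniform vanishing for the kernels of the transition maps of a coherent formal module
-/

set_option autoImplicit false
set_option linter.style.haveILetI false
universe u

open CategoryTheory CategoryTheory.Limits AlgebraicGeometry Opposite TopologicalSpace

noncomputable section

namespace GrothLib.UnifVanish7

open GrothLib.FormalSys GrothLib.FormalFun GrothLib.QCoh GrothLib.FormalCd7
open GrothLib.Ample (Cocycle)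

variable {A : Type u} [CommRing A] {X : Scheme.{u}} [X.Over (Spec (CommRingCat.of A))]
  {I : Ideal A} {G : ℕᵒᵖ ⥤ X.Modules} (hG : Formal.IsCohFormal I G)

include hG in
/-- Multiplication by an element of the ideal raises the level by one. -/
theorem exists_raise {a : A} (ha : a ∈ I) (n : ℕ) : ∃ χ : G.obj (op n) ⟶ G.obj (op (n + 1)),
    FormalCd7.trans G (Nat.le_succ n) ≫ χ = Formal.smulMod A (G.obj (op (n + 1))) a := by
  refine (isQuot_map hG (Nat.le_succ n)).exists_desc _ fun b hb => ?_
  rw [← smulMod_mul]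
  refine hG.2.1 (n + 1) _ ?_
  first
    | (rw [pow_succ' I (n + 1)]; exact Ideal.mul_mem_mul ha hb)
    | (rw [pow_succ I (n + 1)]; exact Ideal.mul_mem_mul hb ha)

/-- The chosen map. -/
def raise {a : A} (ha : a ∈ I) (n : ℕ) : G.obj (op n) ⟶ G.obj (op (n + 1)) := (exists_raise hG ha n).choose

theorem trans_raise {a : A} (ha : a ∈ I) (n : ℕ) :
    FormalCd7.trans G (Nat.le_succ n) ≫ raise hG ha n = Formal.smulMod A (G.obj (op (n + 1))) a :=
  (exists_raise hG ha n).choose_spec

theorem raise_trans {a : A} (ha : a ∈ I) (n : ℕ) :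
    raise hG ha n ≫ FormalCd7.trans G (Nat.le_succ n) = Formal.smulMod A (G.obj (op n)) a := by
  haveI := (isQuot_map hG (Nat.le_succ n)).epi
  rw [← cancel_epi (FormalCd7.trans G (Nat.le_succ n)), reassoc_of% trans_raise hG ha n, smulMod_naturality]

theorem raise_comm {a b : A} (ha : a ∈ I) (hb : b ∈ I) (n : ℕ) :
    raise hG ha n ≫ raise hG hb (n + 1) = raise hG hb n ≫ raise hG ha (n + 1) := by
  have key : ∀ {a b : A} (ha : a ∈ I) (hb : b ∈ I), FormalCd7.trans G (Nat.le_succ (n + 1)) ≫ FormalCd7.trans G (Nat.le_succ n) ≫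
      raise hG ha n ≫ raise hG hb (n + 1) =
        Formal.smulMod A (G.obj (op (n + 1 + 1))) a ≫ Formal.smulMod A (G.obj (op (n + 1 + 1))) b := by
    intro a b ha hb
    rw [reassoc_of% trans_raise hG ha n]
    first
      | rw [smulMod_naturality_assoc, trans_raise]
      | rw [← smulMod_naturality_assoc, trans_raise]
  haveI := (isQuot_map hG (Nat.le_succ n)).epi
  haveI := (isQuot_map hG (Nat.le_succ (n + 1))).epi
  rw [← cancel_epi (FormalCd7.trans G (Nat.le_succ n)), ← cancel_epi (FormalCd7.trans G (Nat.le_succ (n + 1))), key ha hb, key hb ha]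
  rw [← smulMod_mul, ← smulMod_mul, mul_comm a b]

variable (A) in
include A hG in
/-- The kernels of the transition maps, twisted, have uniformly vanishing higher cohomology. -/
theorem exists_uniform_vanish_kernels [IsNoetherianRing A] [IsProper (X ↘ Spec (CommRingCat.of A))]
    (c : Cocycle X) (hc : c.IsAmp) : ∃ n₀, ∀ n, n₀ ≤ n → ∀ k q, 1 ≤ q →
      Subsingleton (Coh.HH X (c.modTwist (kernel (FormalCd7.trans G (Nat.le_succ k))) n) q) := by
  classical
  haveI := SerreVanish.isNoetherian_of_proper (X := X) A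
  obtain ⟨r, a, ha⟩ := Submodule.fg_iff_exists_fin_generating_family.1 (IsNoetherian.noetherian I)
  have haI : ∀ j, a j ∈ I := fun j => ha.le (Submodule.subset_span ⟨j, rfl⟩)
  let K : ℕ → X.Modules := fun k => kernel (FormalCd7.trans G (Nat.le_succ k))
  have hzero : ∀ j k, kernel.ι (FormalCd7.trans G (Nat.le_succ k)) ≫ raise hG (haI j) (k + 1) ≫
      FormalCd7.trans G (Nat.le_succ (k + 1)) = 0 := fun j k => by
    rw [raise_trans, ← trans_raise hG (haI j) k, kernel.condition_assoc, zero_comp]
  let s : Fin r → ∀ k, K k ⟶ K (k + 1) := fun j k => kernel.lift _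
    (kernel.ι (FormalCd7.trans G (Nat.le_succ k)) ≫ raise hG (haI j) (k + 1)) (by rw [Category.assoc, hzero])
  have hK : ∀ k, Coh.IsCoh (K k) := fun k => QCoh.isCoh_kernel _ (hG.1 _) (hG.1 _)
  refine exists_uniform_vanish c A hc r K hK s (fun i j k => ?_) 0 fun k _ => ?_
  · rw [← cancel_mono (kernel.ι (FormalCd7.trans G (Nat.le_succ (k + 1 + 1)))), Category.assoc, Category.assoc, kernel.lift_ι,
      kernel.lift_ι, kernel.lift_ι_assoc, kernel.lift_ι_assoc, Category.assoc, Category.assoc,
      raise_comm hG (haI i) (haI j)]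
  haveI := (hK (k + 1)).1
  refine jointlyEpi_of_sections _ fun y => ?_
  obtain ⟨_, ⟨U, hU, rfl⟩, hy, -⟩ := X.isBasis_affineOpens.exists_subset_of_mem_open (Set.mem_univ y) isOpen_univ
  refine ⟨⟨U, hU⟩, hy, eq_top_iff.2 fun z _ => ?_⟩
  have hI : I.map (toSec A U) = Ideal.span (toSec A U '' Set.range a) := by
    rw [← ha]; exact Ideal.map_span _ _
  let S : Submodule Γ(X, U) Γ(G.obj (op (k + 2)), U) :=
    ((I ^ (k + 1)).map (toSec A U)) • (⊤ : Submodule Γ(X, U) Γ(G.obj (op (k + 2)), U))
  have h0 : secTrans G U (Nat.le_succ (k + 1)) ((kernel.ι (FormalCd7.trans G (Nat.le_succ (k + 1)))).app U z) = 0 :=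
    congrArg (fun φ : K (k + 1) ⟶ G.obj (op (k + 1)) => φ.app U z) (kernel.condition (FormalCd7.trans G (Nat.le_succ (k + 1))))
  rw [secTrans_eq_zero_iff hG hU, pow_succ', Ideal.map_mul, hI, Submodule.mul_smul] at h0
  have h2 : (kernel.ι (FormalCd7.trans G (Nat.le_succ (k + 1)))).app U z ∈
      (⨆ j, LinearMap.range (appLinear (s j k) U)).map (appLinear (kernel.ι (FormalCd7.trans G (Nat.le_succ (k + 1)))) U) := by
    refine Submodule.smul_induction_on h0 (fun b hb w hw => ?_) fun x y hx hy => add_mem hx hy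
    refine Submodule.span_induction (p := fun b _ => ∀ w ∈ S, b • w ∈ _) ?_ (fun w _ => by simp)
      (fun x y _ _ hx hy w hw => by rw [add_smul]; exact add_mem (hx w hw) (hy w hw))
      (fun r x _ hx w hw => by rw [smul_eq_mul, mul_smul]; exact Submodule.smul_mem _ r (hx w hw)) hb w hw
    rintro _ ⟨_, ⟨j, rfl⟩, rfl⟩ w hw
    have hw' : secTrans G U (Nat.le_succ (k + 1)) w ∈
        LinearMap.ker (secTrans G U (Nat.le_succ k)) := by
      rw [LinearMap.mem_ker, secTrans_eq_zero_iff hG hU]
      have := Submodule.mem_map_of_mem (f := secTrans G U (Nat.le_succ (k + 1))) hw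
      rw [Submodule.map_smul''] at this
      exact Submodule.smul_mono le_rfl le_top this
    obtain ⟨v, hv⟩ := (Cohom.sections_exact (QCoh.toAbFun_map_shortExact _
      (ShortComplex.ShortExact.mk' (S := ShortComplex.mk (kernel.ι (FormalCd7.trans G (Nat.le_succ k)))
        (FormalCd7.trans G (Nat.le_succ k)) (kernel.condition _)) (ShortComplex.exact_of_f_is_kernel _ (kernelIsKernel _))
        inferInstance (isQuot_map hG (Nat.le_succ k)).epi)) U) _ hw'
    refine ⟨appLinear (s j k) U v, Submodule.mem_iSup_of_mem j ⟨v, rfl⟩, ?_⟩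
    refine (congrArg (fun φ : K k ⟶ G.obj (op (k + 2)) => φ.app U v)
      (kernel.lift_ι (FormalCd7.trans G (Nat.le_succ (k + 1))) _ _)).trans ?_
    refine (congrArg ((raise hG (haI j) (k + 1)).app U) hv).trans ?_
    refine (congrArg (fun φ : G.obj (op (k + 2)) ⟶ G.obj (op (k + 2)) => φ.app U w)
      (trans_raise hG (haI j) (k + 1))).trans ?_
    exact BCCoh.smulMod_app _ (a j) U w
  obtain ⟨z', hz', he⟩ := h2
  exact Cohom.app_injective_of_mono (kernel.ι (FormalCd7.trans G (Nat.le_succ (k + 1)))) U he ▸ hz'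

end GrothLib.UnifVanish7
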